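import Cfsg.Agent.Lib.GLCusp.Mono

set_option autoImplicit false
set_option linter.unusedSectionVars false

/-!
Multiplicity one for the Gelfand–Graev character.
-/

namespace Cfsg.Agent.GLCusp

open Cfsg Matrix
open scoped ComplexConjugate Classical

universe u

variable {F : Type u} [Field F] [Fintype F] [DecidableEq F] {n : ℕ}

/-- Reflection in the antidiagonal. -/
def flipGL (g : GL (Fin n) F) : GL (Fin n) F where
  val := (g : Matrix (Fin n) (Fin n) F).transpose.submatrix Fin.revPerm Fin.revPerm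
  inv := ((g⁻¹ : GL (Fin n) F) : Matrix (Fin n) (Fin n) F).transpose.submatrix Fin.revPerm Fin.revPerm
  val_inv := by
    rw [Matrix.submatrix_mul_equiv, ← Matrix.transpose_mul, ← Units.val_mul, inv_mul_cancel, Units.val_one,
      Matrix.transpose_one, Matrix.submatrix_one_equiv]
  inv_val := by
    rw [Matrix.submatrix_mul_equiv, ← Matrix.transpose_mul, ← Units.val_mul, mul_inv_cancel, Units.val_one,
      Matrix.transpose_one, Matrix.submatrix_one_equiv]

theorem flipGL_val (g : GL (Fin n) F) (i j : Fin n) :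
    (flipGL g : Matrix (Fin n) (Fin n) F) i j = (g : Matrix (Fin n) (Fin n) F) j.rev i.rev := rfl

theorem flipGL_mul (g h : GL (Fin n) F) : flipGL (g * h) = flipGL h * flipGL g := by
  refine Units.ext ?_
  show (g * h : GL (Fin n) F).val.transpose.submatrix Fin.revPerm Fin.revPerm =
    h.val.transpose.submatrix Fin.revPerm Fin.revPerm * g.val.transpose.submatrix Fin.revPerm Fin.revPerm
  rw [Matrix.submatrix_mul_equiv, ← Matrix.transpose_mul, Units.val_mul]

theorem flipGL_flipGL (g : GL (Fin n) F) : flipGL (flipGL g) = g :=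
  Units.ext (Matrix.ext fun i j => by rw [flipGL_val, flipGL_val, Fin.rev_rev, Fin.rev_rev])

theorem flipGL_mem {g : GL (Fin n) F} (hg : g ∈ uni n) : flipGL g ∈ uni n := by
  intro i j hij
  rw [flipGL_val, hg _ _ (Or.inl (Fin.rev_le_rev.mpr (hij.elim id fun e => absurd e (Nat.not_lt_zero _))))]
  rcases eq_or_ne i j with rfl | h
  · simp
  · rw [Matrix.one_apply_ne h, Matrix.one_apply_ne]
    exact fun e => h (Fin.rev_injective e).symm

theorem superSum_flip (g : GL (Fin n) F) : superSum 0 (flipGL g) = superSum 0 g := by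
  simp only [superSum, Nat.zero_le, true_and, flipGL_val]
  rw [Finset.sum_comm]
  refine Fintype.sum_equiv Fin.revPerm _ _ fun i => Fintype.sum_equiv Fin.revPerm _ _ fun j => ?_
  simp only [Fin.revPerm_apply, Fin.val_rev]
  have := i.2
  have := j.2
  by_cases h : (i : ℕ) = j + 1
  · rw [if_pos h, if_pos (by omega)]
  · rw [if_neg h, if_neg (by omega)]

theorem supp_run {m : Equiv.Perm (Fin n) × (Fin n → Fˣ)} (hm : Supp m) :
    ∀ (e : ℕ) (i j : Fin n), (j : ℕ) = i + e → m.1 i ≤ m.1 j →
      ∀ p : Fin n, i ≤ p → p ≤ j → (m.1 p : ℕ) + i = m.1 i + p ∧ m.2 p = m.2 i := by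
  intro e
  induction e with
  | zero =>
    intro i j hij _ p hp hp'
    obtain rfl : p = i := le_antisymm (hp'.trans (le_of_eq (Fin.ext (by simpa using hij)))) hp
    exact ⟨rfl, rfl⟩
  | succ e ih =>
    intro i j hij hle p hp hp'
    have hlt : i < j := Fin.lt_def.mpr (by omega)
    have hσ : m.1 i < m.1 j := lt_of_le_of_ne hle fun e' => hlt.ne (m.1.injective e')
    obtain ⟨l, hl⟩ : ∃ l : Fin n, (l : ℕ) = i + 1 := ⟨⟨i + 1, by have := j.2; omega⟩, rfl⟩
    have hil : i < l := Fin.lt_def.mpr (by omega)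
    rcases lt_or_gt_of_ne (fun e' : m.1 i = m.1 l => hil.ne (m.1.injective e')) with h | h
    · obtain ⟨h1, h2⟩ := hm i l hil h
      have hl1 := h1.mpr hl
      have hle' : m.1 l ≤ m.1 j := Fin.le_def.mpr (by have := Fin.lt_def.mp hσ; omega)
      rcases eq_or_lt_of_le hp with rfl | hip
      · exact ⟨rfl, rfl⟩
      · obtain ⟨e1, e2⟩ := ih l j (by omega) hle' p (Fin.le_def.mpr (by have := Fin.lt_def.mp hip; omega)) hp'
        exact ⟨by omega, e2.trans (h2 hl).symm⟩
    · exfalso
      have hlj : m.1 l ≤ m.1 j := h.le.trans hle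
      have hj := (ih l j (by omega) hlj j (Fin.le_def.mpr (by omega)) le_rfl).1
      have h' := Fin.lt_def.mp h
      have h'' := Fin.lt_def.mp hσ
      obtain ⟨q, hq⟩ : ∃ q : Fin n, (q : ℕ) = l + ((m.1 i : ℕ) - m.1 l) :=
        ⟨⟨l + ((m.1 i : ℕ) - m.1 l), by have := j.2; omega⟩, rfl⟩
      have hq' := (ih l j (by omega) hlj q (Fin.le_def.mpr (by omega)) (Fin.le_def.mpr (by omega))).1
      have : q = i := m.1.injective (Fin.ext (by omega))
      rw [this] at hq
      omega

theorem supp_rev {m : Equiv.Perm (Fin n) × (Fin n → Fˣ)} (hm : Supp m) (j : Fin n) :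
    m.1 (m.1 j).rev = j.rev ∧ m.2 (m.1 j).rev = m.2 j := by
  set σ := m.1 with hσ
  let A : Finset (Fin n) := Finset.univ.filter fun i => j < i ∧ σ j < σ i
  let B : Finset (Fin n) := Finset.univ.filter fun i => i < j ∧ σ i < σ j
  have hsplit : (σ j : ℕ) = B.card + (Finset.univ.filter fun i => j < i ∧ σ i < σ j).card := by
    rw [← Finset.card_union_of_disjoint (Finset.disjoint_left.mpr fun i h1 h2 => by
      simp only [B, Finset.mem_filter] at h1 h2
      exact lt_asymm h1.2.1 h2.2.1)]
    rw [← Fin.card_Iio (σ j), ← Finset.card_map σ.symm.toEmbedding]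
    congr 1
    ext i
    simp only [Finset.mem_map_equiv, Equiv.symm_symm, Finset.mem_Iio, Finset.mem_union, B, Finset.mem_filter,
      Finset.mem_univ, true_and]
    constructor
    · intro h
      rcases lt_trichotomy i j with h' | rfl | h'
      · exact Or.inl ⟨h', h⟩
      · exact absurd h (lt_irrefl _)
      · exact Or.inr ⟨h', h⟩
    · rintro (h | h) <;> exact h.2
  have hA : A.card + (Finset.univ.filter fun i => j < i ∧ σ i < σ j).card = n - 1 - j := by
    rw [← Finset.card_union_of_disjoint (Finset.disjoint_left.mpr fun i h1 h2 => by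
      simp only [A, Finset.mem_filter] at h1 h2
      exact lt_asymm h1.2.2 h2.2.2)]
    rw [← Fin.card_Ioi j]
    congr 1
    ext i
    simp only [A, Finset.mem_union, Finset.mem_filter, Finset.mem_univ, true_and, Finset.mem_Ioi]
    constructor
    · rintro (h | h) <;> exact h.1
    · intro h
      rcases lt_or_gt_of_ne (fun e : σ i = σ j => h.ne' (σ.injective e)) with h' | h'
      · exact Or.inr ⟨h, h'⟩
      · exact Or.inl ⟨h, h'⟩
  set k := (σ j).rev with hk
  have hkv : (k : ℕ) = n - 1 - σ j := by rw [hk, Fin.val_rev]; omega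
  have := j.2
  have := (σ j).2
  have hrun : ∀ a b p : Fin n, a ≤ b → σ a ≤ σ b → a ≤ p → p ≤ b →
      (σ p : ℕ) + a = σ a + p ∧ m.2 p = m.2 a := fun a b p hab hle =>
    supp_run hm ((b : ℕ) - a) a b (by have := Fin.le_def.mp hab; omega) hle p
  suffices h : (σ k : ℕ) + j = σ j + k ∧ m.2 k = m.2 j by
    exact ⟨Fin.ext (by rw [Fin.val_rev]; omega), h.2⟩
  rcases le_total j k with hjk | hkj
  · by_cases hkA : σ j ≤ σ k
    · exact hrun j k k hjk hkA hjk le_rfl
    · exfalso
      have hsub : A ⊆ Finset.Ioo j k := by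
        intro i hi
        simp only [A, Finset.mem_filter, Finset.mem_univ, true_and] at hi
        refine Finset.mem_Ioo.mpr ⟨hi.1, ?_⟩
        by_contra hki
        have e := (hrun j i k hi.1.le hi.2.le hjk (not_lt.mp hki)).1
        exact hkA (Fin.le_def.mpr (by have := Fin.le_def.mp hjk; omega))
      have := Finset.card_le_card hsub
      rw [Fin.card_Ioo] at this
      have : j ≠ k := fun e => hkA (by rw [← e])
      have := Fin.le_def.mp hjk
      have : (j : ℕ) ≠ k := fun e => ‹j ≠ k› (Fin.ext e)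
      omega
  · by_cases hkB : σ k ≤ σ j
    · obtain ⟨e1, e2⟩ := hrun k j j hkj hkB hkj le_rfl
      exact ⟨by omega, e2.symm⟩
    · exfalso
      have hsub : B ⊆ Finset.Ioo k j := by
        intro i hi
        simp only [B, Finset.mem_filter, Finset.mem_univ, true_and] at hi
        refine Finset.mem_Ioo.mpr ⟨?_, hi.1⟩
        by_contra hki
        have e1 := (hrun i j j hi.1.le hi.2.le hi.1.le le_rfl).1
        have e2 := (hrun i j k hi.1.le hi.2.le (not_lt.mp hki) hkj).1
        exact hkB (Fin.le_def.mpr (by have := Fin.le_def.mp hkj; omega))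
      have := Finset.card_le_card hsub
      rw [Fin.card_Ioo] at this
      have : j ≠ k := fun e => hkB (by rw [← e])
      have := Fin.le_def.mp hkj
      have : (j : ℕ) ≠ k := fun e => ‹j ≠ k› (Fin.ext e)
      omega

theorem flipGL_mon {m : Equiv.Perm (Fin n) × (Fin n → Fˣ)} (hm : Supp m) : flipGL (mon m) = mon m := by
  refine Units.ext (Matrix.ext fun a b => ?_)
  rw [flipGL_val, mon_val, mon_val]
  by_cases h : a = m.1 b
  · obtain ⟨h1, h2⟩ := supp_rev hm b
    rw [if_pos h, h, if_pos h1.symm, h2]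
  · rw [if_neg h, if_neg]
    intro e
    obtain ⟨h1, -⟩ := supp_rev hm a.rev
    rw [← e, Fin.rev_rev, Fin.rev_rev] at h1
    exact h h1.symm

section MultOne

variable {d : ℕ} (ρ : Representation ℂ (GL (Fin n) F) (Fin d → ℂ))

/-- The projection onto the generic isotypic part. -/
noncomputable def proj : Module.End ℂ (Fin d → ℂ) :=
  (Fintype.card (uni (F := F) n) : ℂ)⁻¹ • ∑ v : uni (F := F) n, conj (psiFun n v) • ρ (v : GL (Fin n) F)

theorem psi_conj_self (v : uni (F := F) n) : psiFun n v * conj (psiFun n v) = 1 := by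
  rw [psiFun, ← AddChar.map_neg_eq_conj, ← AddChar.map_add_eq_mul, add_neg_cancel, AddChar.map_zero_eq_one]

theorem rho_proj (v : uni (F := F) n) : ρ (v : GL (Fin n) F) * proj ρ = psiFun n v • proj ρ := by
  rw [proj, mul_smul_comm, smul_comm (psiFun n v)]
  congr 1
  rw [Finset.mul_sum, Finset.smul_sum]
  refine Fintype.sum_equiv (Equiv.mulLeft v) _ _ fun w => ?_
  simp only [mul_smul_comm, Equiv.coe_mulLeft, psiFun_mul, Subgroup.coe_mul, map_mul, smul_smul]
  congr 1
  linear_combination (-conj (psiFun n w)) * psi_conj_self v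

theorem proj_rho (v : uni (F := F) n) : proj ρ * ρ (v : GL (Fin n) F) = psiFun n v • proj ρ := by
  rw [proj, smul_mul_assoc, smul_comm (psiFun n v)]
  congr 1
  rw [Finset.sum_mul, Finset.smul_sum]
  refine Fintype.sum_equiv (Equiv.mulRight v) _ _ fun w => ?_
  simp only [smul_mul_assoc, Equiv.coe_mulRight, psiFun_mul, Subgroup.coe_mul, map_mul, smul_smul]
  congr 1
  linear_combination (-conj (psiFun n w)) * psi_conj_self v

theorem proj_proj : proj ρ * proj ρ = proj ρ := by
  conv_lhs => arg 1; rw [proj]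
  rw [smul_mul_assoc, Finset.sum_mul,
    Finset.sum_congr rfl (fun v _ => by rw [smul_mul_assoc, rho_proj, smul_smul, mul_comm, psi_conj_self, one_smul]),
    Finset.sum_const, Finset.card_univ, ← Nat.cast_smul_eq_nsmul ℂ,
    smul_smul (Fintype.card (uni (F := F) n) : ℂ)⁻¹ (Fintype.card (uni (F := F) n) : ℂ), inv_mul_cancel₀
    (Nat.cast_ne_zero.mpr Fintype.card_ne_zero), one_smul]

/-- The compressed operator. -/
noncomputable def comp (g : GL (Fin n) F) : Module.End ℂ (Fin d → ℂ) := proj ρ * ρ g * proj ρ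

theorem comp_equiv (a b : uni (F := F) n) (g : GL (Fin n) F) :
    comp ρ ((a : GL (Fin n) F) * g * b) = (psiFun n a * psiFun n b) • comp ρ g := by
  simp only [comp, map_mul]
  rw [show proj ρ * (ρ (a : GL (Fin n) F) * ρ g * ρ (b : GL (Fin n) F)) * proj ρ =
    (proj ρ * ρ (a : GL (Fin n) F)) * ρ g * (ρ (b : GL (Fin n) F) * proj ρ) by simp only [mul_assoc],
    proj_rho, rho_proj]
  simp only [smul_mul_assoc, mul_smul_comm, smul_smul, mul_comm (psiFun n a)]

theorem comp_mon_eq_zero {x : GL (Fin n) F} {a b : GL (Fin n) F} (ha : a ∈ uni n) (hb : b ∈ uni n)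
    (he : a * x = x * b) (hne : psi0 F (superSum 0 a) ≠ psi0 F (superSum 0 b)) : comp ρ x = 0 := by
  have h1 := comp_equiv ρ ⟨a, ha⟩ 1 x
  have h2 := comp_equiv ρ 1 ⟨b, hb⟩ x
  rw [Subgroup.coe_one, mul_one, psiFun_one, mul_one] at h1
  rw [Subgroup.coe_one, one_mul, psiFun_one, one_mul] at h2
  simp only at h1 h2
  rw [he, h2] at h1
  by_contra hX
  exact hne (smul_left_injective ℂ hX h1).symm

theorem comp_flip (g : GL (Fin n) F) : comp ρ (flipGL g) = comp ρ g := by
  obtain ⟨m, a, b, ha, hb, rfl⟩ := exists_mon g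
  rw [flipGL_mul, flipGL_mul, ← mul_assoc,
    show flipGL b * flipGL (mon m) * flipGL a = ((⟨flipGL b, flipGL_mem hb⟩ : uni n) : GL (Fin n) F) *
      flipGL (mon m) * ((⟨flipGL a, flipGL_mem ha⟩ : uni n) : GL (Fin n) F) from rfl, comp_equiv,
    show a * mon m * b = ((⟨a, ha⟩ : uni n) : GL (Fin n) F) * mon m * ((⟨b, hb⟩ : uni n) : GL (Fin n) F)
      from rfl, comp_equiv]
  by_cases hm : Supp m
  · rw [flipGL_mon hm]
    congr 1
    simp only [psiFun, superSum_flip]
    ring
  · obtain ⟨w, hw, hw', hne⟩ := exists_witness hm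
    have e1 : w * mon m = mon m * ((mon m)⁻¹ * w * mon m) := by group
    rw [comp_mon_eq_zero ρ hw hw' e1 hne,
      comp_mon_eq_zero ρ (x := flipGL (mon m)) (flipGL_mem hw') (flipGL_mem hw)
        (by rw [← flipGL_mul, ← flipGL_mul, ← e1])
        (by rw [superSum_flip, superSum_flip]; exact hne.symm), smul_zero, smul_zero]

theorem comp_mul (g h : GL (Fin n) F) : comp ρ g * comp ρ h =
    (Fintype.card (uni (F := F) n) : ℂ)⁻¹ •
      ∑ v : uni (F := F) n, conj (psiFun n v) • comp ρ (g * (v : GL (Fin n) F) * h) := by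
  simp only [comp]
  rw [show proj ρ * ρ g * proj ρ * (proj ρ * ρ h * proj ρ) =
    proj ρ * ρ g * (proj ρ * proj ρ) * (ρ h * proj ρ) by simp only [mul_assoc], proj_proj]
  conv_lhs => arg 1; arg 2; rw [proj]
  simp only [mul_smul_comm, smul_mul_assoc, Finset.mul_sum, Finset.sum_mul, map_mul, mul_assoc]

theorem comp_comm (g h : GL (Fin n) F) : comp ρ g * comp ρ h = comp ρ h * comp ρ g := by
  conv_rhs => rw [← comp_flip ρ h, ← comp_flip ρ g]
  rw [comp_mul, comp_mul]
  congr 1
  refine Fintype.sum_equiv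
    { toFun := fun v : uni (F := F) n => (⟨flipGL v.1, flipGL_mem v.2⟩ : uni n)
      invFun := fun v => ⟨flipGL v.1, flipGL_mem v.2⟩
      left_inv := fun v => Subtype.ext (flipGL_flipGL _)
      right_inv := fun v => Subtype.ext (flipGL_flipGL _) } _ _ fun v => ?_
  show _ = conj (psiFun n ⟨flipGL v.1, _⟩) • comp ρ (flipGL h * flipGL v.1 * flipGL g)
  rw [← comp_flip ρ (g * (v : GL (Fin n) F) * h), flipGL_mul, flipGL_mul, mul_assoc]
  simp only [psiFun, superSum_flip]

theorem wh_le_one (hρ : ρ.IsIrreducible) :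
    wh ρ.character = 0 ∨ wh ρ.character = 1 := by
  haveI := hρ
  set P := proj ρ with hP
  have htr : wh ρ.character = LinearMap.trace ℂ (Fin d → ℂ) P := by
    rw [hP, proj, map_smul, map_sum, wh, classInner, Nat.card_eq_fintype_card, smul_eq_mul]
    congr 1
    refine Finset.sum_congr rfl fun v _ => ?_
    rw [map_smul, smul_eq_mul, mul_comm]
    rfl
  have hidem : IsIdempotentElem P := proj_proj ρ
  have hproj := (LinearMap.isProj_range_iff_isIdempotentElem P).mpr hidem
  rw [htr, hproj.trace]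
  suffices h : Module.finrank ℂ (LinearMap.range P) ≤ 1 by
    rcases Nat.le_one_iff_eq_zero_or_eq_one.mp h with e | e
    · exact Or.inl (by rw [e]; simp)
    · exact Or.inr (by rw [e]; simp)
  by_contra hgt
  have hgt : 1 < Module.finrank ℂ (LinearMap.range P) := not_le.mp hgt
  obtain ⟨v₁, hv₁⟩ : ∃ v : LinearMap.range P, v ≠ 0 := Module.finrank_pos_iff_exists_ne_zero.mp (lt_trans Nat.zero_lt_one hgt)
  obtain ⟨v₂, hv₂⟩ : ∃ v : LinearMap.range P, v ∉ Submodule.span ℂ {v₁} := by
    by_contra hall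
    push Not at hall
    have h1 := finrank_span_singleton (K := ℂ) hv₁
    rw [show Submodule.span ℂ {v₁} = ⊤ from Submodule.eq_top_iff'.mpr hall, finrank_top] at h1
    omega
  have hfix : ∀ v : LinearMap.range P, P (v : Fin d → ℂ) = v := fun v => hproj.map_id _ v.2
  have hd : (Module.finrank ℂ (Fin d → ℂ) : ℂ) ≠ 0 := by
    have h2 := Submodule.finrank_le (LinearMap.range P)
    exact Nat.cast_ne_zero.mpr (show Module.finrank ℂ (Fin d → ℂ) ≠ 0 from
      Nat.pos_iff_ne_zero.mp (lt_of_lt_of_le (lt_trans Nat.zero_lt_one hgt) h2))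
  -- compressed rank one operators commute
  have hcomb : ∀ (f : (Fin d → ℂ) →ₗ[ℂ] ℂ) (x : Fin d → ℂ),
      ∃ w : GL (Fin n) F → ℂ, P * f.smulRight x * P = ∑ g, w g • comp ρ g := by
    intro f x
    let c : ℂ := (Module.finrank ℂ (Fin d → ℂ) : ℂ) * (Fintype.card (GL (Fin n) F) : ℂ)⁻¹
    refine ⟨fun g => c * f (ρ g⁻¹ x), ?_⟩
    have key : f.smulRight x = ∑ g, (c * f (ρ g⁻¹ x)) • ρ g := by
      refine LinearMap.ext fun v => ?_
      have hT : ∀ k : GL (Fin n) F, ρ k * (∑ g : GL (Fin n) F, ρ g * f.smulRight v * ρ g⁻¹) =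
          (∑ g : GL (Fin n) F, ρ g * f.smulRight v * ρ g⁻¹) * ρ k := by
        intro k
        rw [Finset.mul_sum, Finset.sum_mul]
        refine Fintype.sum_equiv (Equiv.mulLeft k) _ _ fun g => ?_
        rw [Equiv.coe_mulLeft, _root_.mul_inv_rev, map_mul, map_mul]
        simp only [mul_assoc]
        rw [← map_mul, inv_mul_cancel, map_one, mul_one]
      have hz := CT.eq_scalar_of_commute ρ _ fun k => (hT k).symm
      have htr : LinearMap.trace ℂ (Fin d → ℂ) (∑ g : GL (Fin n) F, ρ g * f.smulRight v * ρ g⁻¹) =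
          (Fintype.card (GL (Fin n) F) : ℂ) * f v := by
        rw [map_sum, Finset.sum_congr rfl (fun g _ => show LinearMap.trace ℂ (Fin d → ℂ) (ρ g * f.smulRight v * ρ g⁻¹) =
          f v by rw [LinearMap.trace_mul_comm, ← mul_assoc, ← map_mul, inv_mul_cancel, map_one, one_mul,
            LinearMap.trace_smulRight]), Finset.sum_const, Finset.card_univ, nsmul_eq_mul]
      rw [htr] at hz
      have hx := LinearMap.congr_fun hz x
      simp only [LinearMap.sum_apply, Module.End.mul_apply, LinearMap.smulRight_apply, map_smul,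
        LinearMap.smul_apply, LinearMap.id_apply] at hx
      simp only [LinearMap.sum_apply, LinearMap.smul_apply, LinearMap.smulRight_apply, ← smul_smul, ← Finset.smul_sum]
      rw [hx, smul_smul]
      congr 1
      have hG : (Fintype.card (GL (Fin n) F) : ℂ) ≠ 0 := Nat.cast_ne_zero.mpr Fintype.card_ne_zero
      simp only [c]
      field_simp
    rw [key, Finset.mul_sum, Finset.sum_mul]
    exact Finset.sum_congr rfl fun g _ => by simp only [comp, mul_smul_comm, smul_mul_assoc, hP]
  have hcomm : ∀ (f f' : (Fin d → ℂ) →ₗ[ℂ] ℂ) (x x' : Fin d → ℂ),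
      (P * f.smulRight x * P) * (P * f'.smulRight x' * P) =
        (P * f'.smulRight x' * P) * (P * f.smulRight x * P) := by
    intro f f' x x'
    obtain ⟨w, hw⟩ := hcomb f x
    obtain ⟨w', hw'⟩ := hcomb f' x'
    rw [hw, hw', Finset.sum_mul, Finset.mul_sum]
    refine Finset.sum_congr rfl fun g _ => ?_
    rw [Finset.mul_sum, Finset.sum_mul]
    exact Finset.sum_congr rfl fun h _ => by
      simp only [smul_mul_assoc, mul_smul_comm, smul_smul, comp_comm ρ g h, mul_comm (w g)]
  have hv₂' : (v₂ : Fin d → ℂ) ∉ Submodule.span ℂ {(v₁ : Fin d → ℂ)} := by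
    intro h
    obtain ⟨c, hc⟩ := Submodule.mem_span_singleton.mp h
    exact hv₂ (Submodule.mem_span_singleton.mpr ⟨c, Subtype.ext hc⟩)
  obtain ⟨f₂, hf₂, hf₂'⟩ := Submodule.exists_dual_map_eq_bot_of_notMem hv₂' inferInstance
  obtain ⟨f₁, hf₁, -⟩ := Submodule.exists_dual_map_eq_bot_of_notMem
    (p := (⊥ : Submodule ℂ (Fin d → ℂ))) (x := (v₁ : Fin d → ℂ)) (fun e => hv₁ (Subtype.ext (by simpa using e)))
    inferInstance
  have h21 : f₂ (v₁ : Fin d → ℂ) = 0 := by
    have := Submodule.mem_map_of_mem (f := f₂) (Submodule.mem_span_singleton_self (v₁ : Fin d → ℂ))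
    rw [hf₂'] at this
    simpa using this
  have h := LinearMap.congr_fun (hcomm f₂ f₁ (v₁ : Fin d → ℂ) (v₂ : Fin d → ℂ)) (v₁ : Fin d → ℂ)
  simp only [Module.End.mul_apply, LinearMap.smulRight_apply, map_smul, hfix, h21, zero_smul, smul_zero,
    map_zero] at h
  rw [smul_smul, smul_eq_zero] at h
  rcases h with h | h
  · rcases mul_eq_zero.mp h with h' | h'
    · exact hf₁ h'
    · exact hf₂ h'
  · exact hv₁ (Subtype.ext h)

end MultOne

end Cfsg.Agent.GLCusp
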