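import Cfsg.Agent.Lib.GLCusp.Support

set_option autoImplicit false
set_option linter.unusedSectionVars false

/-!
Counting cuspidal characters.
-/

namespace Cfsg.Agent.GLCusp

open Cfsg Matrix
open scoped ComplexConjugate Classical

universe u

variable {F : Type u} [Field F] [Fintype F] [DecidableEq F]

section Generic

variable {n : ℕ}

theorem wh_irr (χ : IrrCharacter (GL (Fin n) F)) :
    wh (χ : GL (Fin n) F → ℂ) = 0 ∨ wh (χ : GL (Fin n) F → ℂ) = 1 := by
  obtain ⟨d, ρ, hρ, he⟩ := χ.2
  rw [← he]
  exact wh_le_one ρ hρ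

theorem inner_gg_right {χ : GL (Fin n) F → ℂ} (hχ : IsClassFunction _ χ) :
    classInner χ (gg F n) = wh χ :=
  CT.frobenius_reciprocity' _ hχ _

variable (F n) in
/-- The generic irreducible characters. -/
def Gen : Type u := {χ : IrrCharacter (GL (Fin n) F) // wh (χ : GL (Fin n) F → ℂ) = 1}

noncomputable instance : Fintype (Gen F n) := inferInstanceAs (Fintype {χ : IrrCharacter (GL (Fin n) F) // wh (χ : GL (Fin n) F → ℂ) = 1})

theorem inner_eq_gen {θ : GL (Fin n) F → ℂ} :
    classInner θ (gg F n) = ∑ c : Gen F n, classInner θ (c.1 : GL (Fin n) F → ℂ) := by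
  rw [CT.classInner_eq_sum (CT.isClassFunction_of_isCharacter isCharacter_gg)]
  have h : ∀ c : IrrCharacter (GL (Fin n) F),
      classInner θ (c : GL (Fin n) F → ℂ) * conj (classInner (gg F n) (c : GL (Fin n) F → ℂ)) =
        if wh (c : GL (Fin n) F → ℂ) = 1 then classInner θ (c : GL (Fin n) F → ℂ) else 0 := by
    intro c
    rw [CT.classInner_conj_symm, inner_gg_right (CT.isClassFunction_of_isIrr c.2)]
    rcases wh_irr c with e | e <;> simp [e]
  rw [Finset.sum_congr rfl fun c _ => h c, ← Finset.sum_filter]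
  exact Finset.sum_subtype _ (by simp) _

theorem card_gen {N : ℕ} (hn : n = N + 1) :
    Nat.card (Gen F n) = (Fintype.card F - 1) * Fintype.card F ^ N := by
  subst hn
  have h := inner_eq_gen (θ := gg F (N + 1))
  rw [inner_gg, Finset.sum_congr rfl (fun c _ => show classInner (gg F (N + 1)) (c.1 : GL (Fin (N + 1)) F → ℂ) = 1 by
    rw [← CT.classInner_conj_symm, inner_gg_right (CT.isClassFunction_of_isIrr c.1.2), c.2, map_one]),
    card_supp, Finset.sum_const, Finset.card_univ, nsmul_eq_mul, mul_one] at h
  rw [Nat.card_eq_fintype_card]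
  exact_mod_cast h.symm

theorem wh_cusp (hn : 0 < n) {χ : IrrCharacter (GL (Fin n) F)} (hc : IsCusp (χ : GL (Fin n) F → ℂ)) :
    wh (χ : GL (Fin n) F → ℂ) = 1 ∧
      (χ : GL (Fin n) F → ℂ) 1 = ∏ i ∈ Finset.Ico 1 n, ((Fintype.card F : ℂ) ^ i - 1) := by
  have h := degree_eq (CT.isCharacter_of_isIrr χ.2) hc hn
  have h1 : (χ : GL (Fin n) F → ℂ) 1 ≠ 0 := by
    rw [CT.deg_eq (CT.isCharacter_of_isIrr χ.2)]
    exact Nat.cast_ne_zero.mpr (CT.deg_pos χ.2).ne'
  have hw : wh (χ : GL (Fin n) F → ℂ) = 1 := by
    refine (wh_irr χ).resolve_left fun e => h1 ?_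
    rw [h]
    exact mul_eq_zero_of_right _ e
  refine ⟨hw, ?_⟩
  rw [h, show classInner (fun g : uni (F := F) n => (χ : GL (Fin n) F → ℂ) g) (psiFun n) = 1 from hw, mul_one]

theorem inner_ind_gg_one (D : Datum F n) : classInner D.ind (gg F n) = 1 := by
  rw [inner_ind_gg]
  exact Finset.prod_eq_one fun a _ => (wh_cusp (D.pos a) (D.cusp a)).1

theorem exists_gen (D : Datum F n) : ∃ c : Gen F n,
    classInner D.ind (c.1 : GL (Fin n) F → ℂ) ≠ 0 ∧
      ∀ c' : Gen F n, classInner D.ind (c'.1 : GL (Fin n) F → ℂ) ≠ 0 → c' = c := by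
  choose μ hμ using fun c : Gen F n => CT.classInner_character_nat D.isCharacter_ind (CT.isCharacter_of_isIrr c.1.2)
  have h := inner_ind_gg_one D
  rw [inner_eq_gen, Finset.sum_congr rfl fun c _ => hμ c] at h
  have h' : ∑ c, μ c = 1 := by exact_mod_cast h
  obtain ⟨c, hc⟩ : ∃ c, μ c ≠ 0 := by
    by_contra hall
    push Not at hall
    simp [hall] at h'
  refine ⟨c, by rw [hμ]; exact_mod_cast hc, fun c' hc' => ?_⟩
  rw [hμ] at hc'
  have hc'' : μ c' ≠ 0 := by exact_mod_cast hc'
  by_contra hne
  have h2 := Finset.sum_le_sum_of_subset (f := μ) (Finset.subset_univ {c', c})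
  rw [Finset.sum_pair hne, h'] at h2
  omega

/-- The generic constituent of the induction of a datum. -/
noncomputable def genOf (D : Datum F n) : Gen F n := (exists_gen D).choose

theorem genOf_spec (D : Datum F n) : classInner D.ind ((genOf D).1 : GL (Fin n) F → ℂ) ≠ 0 :=
  (exists_gen D).choose_spec.1

theorem eq_genOf (D : Datum F n) {c : Gen F n} (h : classInner D.ind (c.1 : GL (Fin n) F → ℂ) ≠ 0) :
    c = genOf D := (exists_gen D).choose_spec.2 c h

theorem nonempty_matching_of_genOf_eq {D D' : Datum F n} (h : genOf D = genOf D') :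
    Nonempty (D.Matching D') := by
  by_contra hne
  have h0 := Datum.inner_ind_eq_zero (not_nonempty_iff.mp hne)
  rw [CT.classInner_eq_sum (CT.isClassFunction_of_isCharacter D'.isCharacter_ind)] at h0
  choose μ hμ using fun c : IrrCharacter (GL (Fin n) F) =>
    CT.classInner_character_nat D.isCharacter_ind (CT.isCharacter_of_isIrr c.2)
  choose μ' hμ' using fun c : IrrCharacter (GL (Fin n) F) =>
    CT.classInner_character_nat D'.isCharacter_ind (CT.isCharacter_of_isIrr c.2)
  rw [Finset.sum_congr rfl (fun c _ => show _ = ((μ c * μ' c : ℕ) : ℂ) by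
    rw [hμ, hμ', map_natCast, Nat.cast_mul]), ← Nat.cast_sum, Nat.cast_eq_zero,
    Finset.sum_eq_zero_iff] at h0
  have h1 : μ (genOf D).1 ≠ 0 := fun e => genOf_spec D (by rw [hμ, e, Nat.cast_zero])
  have h2 : μ' (genOf D).1 ≠ 0 := fun e => genOf_spec D' (by rw [← h, hμ', e, Nat.cast_zero])
  exact mul_ne_zero h1 h2 (h0 _ (Finset.mem_univ _))

/-- The multiset of types of a datum. -/
def types (D : Datum F n) : Multiset (CuspType F) := Finset.univ.val.map D.ty

theorem types_sum (D : Datum F n) : ((types D).map Sigma.fst).sum = n := by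
  rw [types, Multiset.map_map]
  exact D.hn

theorem types_eq_of_matching {D D' : Datum F n} (π : D.Matching D') : types D = types D' := by
  rw [types, types, ← Finset.map_univ_equiv π.1, Finset.map_val, Multiset.map_map]
  exact Multiset.map_congr rfl fun a _ => (π.2 a).symm

theorem matching_of_types_eq {D D' : Datum F n} (h : types D = types D') : Nonempty (D.Matching D') := by
  have hc : ∀ t, Fintype.card {a // D.ty a = t} = Fintype.card {a // D'.ty a = t} := by
    intro t
    have e := congrArg (Multiset.count t) h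
    rw [types, types, Multiset.count_map, Multiset.count_map] at e
    rw [Fintype.card_subtype, Fintype.card_subtype, Finset.card_def, Finset.card_def, Finset.filter_val,
      Finset.filter_val]
    simpa only [eq_comm] using e
  let e := fun t => Fintype.equivOfCardEq (hc t)
  exact ⟨⟨Equiv.ofFiberEquiv e, fun a => Equiv.ofFiberEquiv_map e a⟩⟩

theorem exists_datum_types (M : Multiset (CuspType F)) (hM : (M.map Sigma.fst).sum = n) :
    ∃ D : Datum F n, types D = M := by
  obtain ⟨l, rfl⟩ : ∃ l : List (CuspType F), (l : Multiset (CuspType F)) = M := Quot.exists_rep M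
  refine ⟨⟨l.length, l.get, ?_⟩, ?_⟩
  · rw [← hM, Multiset.map_coe, Multiset.sum_coe, ← List.sum_ofFn]
    conv_rhs => rw [← List.ofFn_get l, List.map_ofFn]
    rfl
  · show Multiset.map l.get Finset.univ.val = _
    rw [Fin.univ_val_map, List.ofFn_get]

variable (F n) in
/-- Multisets of types of total size `n`. -/
abbrev MS : Type u := {M : Multiset (CuspType F) // (M.map Sigma.fst).sum = n}

theorem card_MS (hn : 0 < n) : Nat.card (MS F n) = (Fintype.card F - 1) * Fintype.card F ^ (n - 1) := by
  rw [← card_gen (F := F) (n := n) (show n = n - 1 + 1 by omega)]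
  choose D hD using fun M : MS F n => exists_datum_types M.1 M.2
  refine Nat.card_eq_of_bijective (fun M => genOf (D M)) ⟨fun M M' e => ?_, fun c => ?_⟩
  · obtain ⟨π⟩ := nonempty_matching_of_genOf_eq e
    exact Subtype.ext (by rw [← hD M, ← hD M', types_eq_of_matching π])
  · obtain ⟨E, hE⟩ := exists_datum hn c.1.2
    refine ⟨⟨types E, types_sum E⟩, (eq_genOf _ ?_).symm⟩
    obtain ⟨π⟩ := matching_of_types_eq (hD ⟨types E, types_sum E⟩)
    rw [Datum.ind_eq_of_matching π]
    intro h
    exact hE (by rw [← CT.classInner_conj_symm, h, map_zero])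

end Generic

section Graded

variable {A B : Type*} (da : A → ℕ) (db : B → ℕ)

/-- Multisets of given total weight. -/
abbrev MSd (m : ℕ) : Type _ := {M : Multiset A // (M.map da).sum = m}

/-- Splitting off the indecomposables of weight `m`. -/
noncomputable def splitMS (ha : ∀ a, 0 < da a) (m : ℕ) (hm : 0 < m) :
    MSd da m ≃ {a // da a = m} ⊕ MSd (fun a : {a // da a < m} => da a.1) m where
  toFun M :=
    if h : ∃ a ∈ M.1, da a = m then Sum.inl ⟨h.choose, h.choose_spec.2⟩
    else Sum.inr ⟨M.1.attach.map fun x => ⟨x.1, lt_of_le_of_ne (by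
        exact le_of_le_of_eq (Multiset.single_le_sum (fun _ _ => Nat.zero_le _) _ (Multiset.mem_map_of_mem da x.2)) M.2)
        fun e => h ⟨x.1, x.2, e⟩⟩, by
      rw [Multiset.map_map]
      exact (congrArg Multiset.sum (Multiset.attach_map_val' M.1 da)).trans M.2⟩
  invFun x := match x with
    | Sum.inl a => ⟨{a.1}, by simpa using a.2⟩
    | Sum.inr M => ⟨M.1.map Subtype.val, by rw [Multiset.map_map]; exact M.2⟩
  left_inv M := by
    by_cases h : ∃ a ∈ M.1, da a = m
    · simp only
      rw [dif_pos h]
      refine Subtype.ext ?_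
      show ({h.choose} : Multiset A) = M.1
      obtain ⟨hmem, heq⟩ := h.choose_spec
      obtain ⟨R, hR⟩ := Multiset.exists_cons_of_mem hmem
      have h2 : da h.choose + (R.map da).sum = m := by
        have := M.2
        rw [hR, Multiset.map_cons, Multiset.sum_cons] at this
        exact this
      have hR0 : R = 0 := Multiset.eq_zero_of_forall_notMem fun x hx => by
        have := Multiset.single_le_sum (fun _ _ => Nat.zero_le _) _ (Multiset.mem_map_of_mem da hx)
        have := ha x
        omega
      rw [hR0] at hR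
      exact hR.symm
    · simp only
      rw [dif_neg h]
      refine Subtype.ext ?_
      show Multiset.map Subtype.val (M.1.attach.map _) = M.1
      rw [Multiset.map_map]
      exact Multiset.attach_map_val M.1
  right_inv x := by
    match x with
    | Sum.inl a =>
      have h : ∃ b ∈ ({a.1} : Multiset A), da b = m := ⟨a.1, Multiset.mem_singleton_self _, a.2⟩
      simp only
      rw [dif_pos h]
      exact congrArg Sum.inl (Subtype.ext (Multiset.mem_singleton.mp h.choose_spec.1))
    | Sum.inr M =>
      have h : ¬∃ b ∈ M.1.map Subtype.val, da b = m := by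
        rintro ⟨b, hb, e⟩
        obtain ⟨c, -, rfl⟩ := Multiset.mem_map.mp hb
        exact c.2.ne e
      simp only
      rw [dif_neg h]
      refine congrArg Sum.inr (Subtype.ext ?_)
      refine Multiset.map_injective Subtype.val_injective ?_
      rw [Multiset.map_map]
      exact Multiset.attach_map_val _

theorem graded_card (ha : ∀ a, 0 < da a) (hb : ∀ b, 0 < db b)
    (h : ∀ m, 0 < m → Nat.card (MSd da m) = Nat.card (MSd db m) ∧ Nat.card (MSd db m) ≠ 0) :
    ∀ m, Nat.card {a // da a = m} = Nat.card {b // db b = m} ∧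
      Finite {a // da a = m} ∧ Finite {b // db b = m} := by
  intro m
  induction m using Nat.strong_induction_on with
  | _ m ih =>
    rcases Nat.eq_zero_or_pos m with rfl | hm
    · haveI : IsEmpty {a // da a = 0} := ⟨fun x => (ha x.1).ne' x.2⟩
      haveI : IsEmpty {b // db b = 0} := ⟨fun x => (hb x.1).ne' x.2⟩
      exact ⟨by simp, inferInstance, inferInstance⟩
    obtain ⟨he, hne⟩ := h m hm
    haveI : Finite (MSd db m) := Nat.finite_of_card_ne_zero hne
    haveI : Finite (MSd da m) := Nat.finite_of_card_ne_zero (he ▸ hne)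
    haveI hFa := Finite.of_equiv _ (splitMS da ha m hm)
    haveI hFb := Finite.of_equiv _ (splitMS db hb m hm)
    haveI : Finite {a // da a = m} :=
      Finite.of_injective (Sum.inl : _ → _ ⊕ MSd (fun a : {a // da a < m} => da a.1) m) Sum.inl_injective
    haveI : Finite {b // db b = m} :=
      Finite.of_injective (Sum.inl : _ → _ ⊕ MSd (fun b : {b // db b < m} => db b.1) m) Sum.inl_injective
    haveI : Finite (MSd (fun a : {a // da a < m} => da a.1) m) :=
      Finite.of_injective (Sum.inr : _ → {a // da a = m} ⊕ _) Sum.inr_injective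
    haveI : Finite (MSd (fun b : {b // db b < m} => db b.1) m) :=
      Finite.of_injective (Sum.inr : _ → {b // db b = m} ⊕ _) Sum.inr_injective
    have efib : ∀ d : Fin m, Nonempty ({a // da a = d.1} ≃ {b // db b = d.1}) := fun d => by
      obtain ⟨e, f1, f2⟩ := ih d.1 d.2
      haveI := f1
      haveI := f2
      haveI := Fintype.ofFinite {a // da a = d.1}
      haveI := Fintype.ofFinite {b // db b = d.1}
      exact ⟨Fintype.equivOfCardEq (by rw [← Nat.card_eq_fintype_card, ← Nat.card_eq_fintype_card, e])⟩
    let e := fun d => (efib d).some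
    let dA : {a // da a < m} → Fin m := fun a => ⟨da a.1, a.2⟩
    let dB : {b // db b < m} → Fin m := fun b => ⟨db b.1, b.2⟩
    let ef : ∀ d : Fin m, {a // dA a = d} ≃ {b // dB b = d} := fun d =>
      { toFun := fun a => ⟨⟨(e d ⟨a.1.1, congrArg Fin.val a.2⟩).1,
            lt_of_le_of_lt (le_of_eq (e d _).2) d.2⟩, Fin.ext (e d _).2⟩
        invFun := fun b => ⟨⟨((e d).symm ⟨b.1.1, congrArg Fin.val b.2⟩).1,
            lt_of_le_of_lt (le_of_eq ((e d).symm _).2) d.2⟩, Fin.ext ((e d).symm _).2⟩
        left_inv := fun a => by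
          refine Subtype.ext (Subtype.ext ?_)
          show ((e d).symm _).1 = a.1.1
          simp
        right_inv := fun b => by
          refine Subtype.ext (Subtype.ext ?_)
          show ((e d) _).1 = b.1.1
          simp }
    let E := Equiv.ofFiberEquiv ef
    have hE : ∀ a, db (E a).1 = da a.1 := fun a => congrArg Fin.val (Equiv.ofFiberEquiv_map ef a)
    let EM : MSd (fun a : {a // da a < m} => da a.1) m ≃ MSd (fun b : {b // db b < m} => db b.1) m :=
      { toFun := fun M => ⟨M.1.map E, by
          rw [Multiset.map_map]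
          exact (congrArg Multiset.sum (Multiset.map_congr rfl fun a _ => hE a)).trans M.2⟩
        invFun := fun M => ⟨M.1.map E.symm, by
          rw [Multiset.map_map]
          refine (congrArg Multiset.sum (Multiset.map_congr rfl fun b _ => ?_)).trans M.2
          simpa using (hE (E.symm b)).symm⟩
        left_inv := fun M => Subtype.ext (by simp [Multiset.map_map])
        right_inv := fun M => Subtype.ext (by simp [Multiset.map_map]) }
    have h1 := Nat.card_congr (splitMS da ha m hm)
    have h2 := Nat.card_congr (splitMS db hb m hm)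
    rw [Nat.card_sum] at h1 h2
    have h3 := Nat.card_congr EM
    exact ⟨by omega, inferInstance, inferInstance⟩

end Graded

section Poly

open Polynomial UniqueFactorizationMonoid

variable (F) in
/-- Monic irreducible polynomials other than `X`. -/
abbrev IrrPoly : Type u := {f : F[X] // f.Monic ∧ Irreducible f ∧ f.coeff 0 ≠ 0}

theorem IrrPoly.deg_pos (f : IrrPoly F) : 0 < f.1.natDegree := f.2.2.1.natDegree_pos

theorem coeff_zero_prod_ne {M : Multiset F[X]} (h : ∀ f ∈ M, f.coeff 0 ≠ 0) : M.prod.coeff 0 ≠ 0 := by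
  rw [Polynomial.coeff_zero_eq_eval_zero, Polynomial.eval_multiset_prod]
  refine Multiset.prod_ne_zero fun h0 => ?_
  obtain ⟨f, hf, e⟩ := Multiset.mem_map.mp h0
  exact h f hf (by rwa [Polynomial.coeff_zero_eq_eval_zero])

theorem card_poly_MS {N : ℕ} :
    Nat.card (MSd (fun f : IrrPoly F => f.1.natDegree) (N + 1)) = (Fintype.card F - 1) * Fintype.card F ^ N := by
  let PS := {f : {f : F[X] // f.Monic ∧ f.natDegree = N + 1} // f.1.coeff 0 ≠ 0}
  have hPS : Nat.card PS = (Fintype.card F - 1) * Fintype.card F ^ N := by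
    let e : {f : F[X] // f.Monic ∧ f.natDegree = N + 1} ≃ (Fin (N + 1) → F) :=
      (Polynomial.monicEquivDegreeLT (N + 1)).trans (Polynomial.degreeLTEquiv F (N + 1)).toEquiv
    have he : ∀ f, (e f) 0 = f.1.coeff 0 := fun f => by
      show (f.1.eraseLead).coeff ((0 : Fin (N + 1)) : ℕ) = _
      rw [Fin.val_zero, Polynomial.eraseLead_coeff_of_ne]
      rw [f.2.2]
      omega
    have e2 : {v : Fin (N + 1) → F // v 0 ≠ 0} ≃ Fˣ × (Fin N → F) :=
      { toFun := fun v => (Units.mk0 (v.1 0) v.2, Fin.tail v.1)
        invFun := fun x => ⟨Fin.cons (x.1 : F) x.2, by simp⟩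
        left_inv := fun v => Subtype.ext (Fin.cons_self_tail v.1)
        right_inv := fun x => Prod.ext (Units.ext (by simp)) (by simp [Fin.tail]) }
    rw [Nat.card_congr ((e.subtypeEquiv fun f => by rw [he]).trans e2), Nat.card_prod,
      Nat.card_eq_fintype_card, Nat.card_eq_fintype_card, Fintype.card_units, Fintype.card_fun,
      Fintype.card_fin]
  rw [← hPS]
  have hmon : ∀ M : Multiset (IrrPoly F), ∀ f ∈ M.map Subtype.val, Polynomial.Monic f := by
    intro M f hf
    obtain ⟨g, -, rfl⟩ := Multiset.mem_map.mp hf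
    exact g.2.1
  refine Nat.card_eq_of_bijective (fun M => (⟨⟨(M.1.map Subtype.val).prod,
    Polynomial.monic_multiset_prod_of_monic _ _ (fun f hf => f.2.1), ?_⟩, ?_⟩ : PS)) ⟨?_, ?_⟩
  · rw [Polynomial.natDegree_multiset_prod_of_monic _ (hmon M.1), Multiset.map_map]
    exact M.2
  · refine coeff_zero_prod_ne fun f hf => ?_
    obtain ⟨g, -, rfl⟩ := Multiset.mem_map.mp hf
    exact g.2.2.2
  · intro M M' e
    have e' : (M.1.map Subtype.val).prod = (M'.1.map Subtype.val).prod :=
      congrArg (fun x : PS => x.1.1) e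
    have hirr : ∀ M : Multiset (IrrPoly F), ∀ f ∈ M.map Subtype.val, Irreducible f := by
      intro M f hf
      obtain ⟨g, -, rfl⟩ := Multiset.mem_map.mp hf
      exact g.2.2.1
    have hrel := UniqueFactorizationMonoid.factors_unique (hirr M.1) (hirr M'.1) (e' ▸ Associated.refl _)
    refine Subtype.ext (Multiset.map_injective Subtype.val_injective (Multiset.rel_eq.mp ?_))
    exact hrel.mono fun a ha b hb hab => Polynomial.eq_of_monic_of_associated (hmon _ a ha) (hmon _ b hb) hab
  · rintro ⟨⟨f, hf, hdeg⟩, h0⟩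
    have hf0 : f ≠ 0 := hf.ne_zero
    have hm : ∀ g ∈ normalizedFactors f, g.Monic ∧ Irreducible g ∧ g.coeff 0 ≠ 0 := by
      intro g hg
      have hi := irreducible_of_normalized_factor g hg
      refine ⟨?_, hi, fun e => ?_⟩
      · rw [← normalize_normalized_factor g hg]
        exact Polynomial.monic_normalize hi.ne_zero
      · obtain ⟨r, hr⟩ := dvd_of_mem_normalizedFactors hg
        apply h0
        show f.coeff 0 = 0
        rw [hr, Polynomial.mul_coeff_zero, e, zero_mul]
    let M : Multiset (IrrPoly F) := (normalizedFactors f).attach.map fun g => ⟨g.1, hm g.1 g.2⟩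
    have hval : M.map Subtype.val = normalizedFactors f := by
      rw [Multiset.map_map]
      exact Multiset.attach_map_val _
    have hprod : (M.map Subtype.val).prod = f := by
      rw [hval]
      refine Polynomial.eq_of_monic_of_associated ?_ hf (prod_normalizedFactors hf0)
      rw [← hval]
      exact Polynomial.monic_multiset_prod_of_monic _ _ fun g _ => g.2.1
    refine ⟨⟨M, ?_⟩, Subtype.ext (Subtype.ext hprod)⟩
    show (M.map fun f => f.1.natDegree).sum = N + 1
    rw [← hdeg]
    show _ = f.natDegree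
    conv_rhs => rw [← hprod, Polynomial.natDegree_multiset_prod_of_monic _ (hmon M)]
    rw [Multiset.map_map Polynomial.natDegree Subtype.val M]
    rfl

theorem totient_le_card_irr {n : ℕ} (hn : 0 < n) [Finite {f : IrrPoly F // f.1.natDegree = n}] :
    Nat.totient (Fintype.card F ^ n - 1) ≤ n * Nat.card {f : IrrPoly F // f.1.natDegree = n} := by
  obtain ⟨p, hp⟩ := CharP.exists F
  haveI := hp
  haveI : Fact p.Prime := ⟨CharP.char_is_prime F p⟩
  haveI : NeZero n := ⟨hn.ne'⟩
  let K := FiniteField.Extension F p n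
  haveI : Fintype K := Fintype.ofFinite K
  haveI : Fintype {f : IrrPoly F // f.1.natDegree = n} := Fintype.ofFinite _
  have hK : Fintype.card Kˣ = Fintype.card F ^ n - 1 := by
    rw [Fintype.card_units, ← Nat.card_eq_fintype_card, FiniteField.natCard_extension, Nat.card_eq_fintype_card]
  let P : Finset Kˣ := Finset.univ.filter fun g => orderOf g = Fintype.card Kˣ
  have hP : P.card = Nat.totient (Fintype.card F ^ n - 1) := by
    rw [← hK]
    exact IsCyclic.card_orderOf_eq_totient dvd_rfl
  have hmin : ∀ g ∈ P, (minpoly F (g : K)).Monic ∧ Irreducible (minpoly F (g : K)) ∧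
      (minpoly F (g : K)).coeff 0 ≠ 0 ∧ (minpoly F (g : K)).natDegree = n := by
    intro g hg
    have hint : IsIntegral F (g : K) := IsIntegral.of_finite F _
    refine ⟨minpoly.monic hint, minpoly.irreducible hint, minpoly.coeff_zero_ne_zero hint g.ne_zero, ?_⟩
    have htop : IntermediateField.adjoin F {(g : K)} = ⊤ := by
      have hgen : ∀ x : Kˣ, x ∈ Subgroup.zpowers g := by
        intro x
        have h1 : Nat.card (Subgroup.zpowers g) = Nat.card Kˣ := by
          rw [Nat.card_zpowers, (Finset.mem_filter.mp hg).2, Nat.card_eq_fintype_card]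
        rw [Subgroup.eq_top_of_card_eq _ h1]
        trivial
      refine eq_top_iff.mpr fun x _ => ?_
      rcases eq_or_ne x 0 with rfl | hx
      · exact zero_mem _
      · obtain ⟨k, hk⟩ := hgen (Units.mk0 x hx)
        have hk' : ((g : K) ^ k) = x := by
          rw [← Units.val_zpow_eq_zpow_val]
          exact congrArg Units.val hk
        rw [← hk']
        exact zpow_mem (IntermediateField.mem_adjoin_simple_self F (g : K)) k
    rw [← IntermediateField.adjoin.finrank hint, htop, IntermediateField.finrank_top',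
      FiniteField.finrank_extension]
  let toP : {g // g ∈ P} → {f : IrrPoly F // f.1.natDegree = n} := fun g =>
    ⟨⟨minpoly F ((g.1 : Kˣ) : K), (hmin g.1 g.2).1, (hmin g.1 g.2).2.1, (hmin g.1 g.2).2.2.1⟩, (hmin g.1 g.2).2.2.2⟩
  rw [← hP, ← Fintype.card_coe, Nat.card_eq_fintype_card]
  refine Finset.card_le_mul_card_image_of_maps_to (f := toP) (s := Finset.univ) (t := Finset.univ)
    (fun _ _ => Finset.mem_univ _) n fun f _ => ?_
  calc (Finset.univ.filter fun g => toP g = f).card
      ≤ ((f.1.1.map (algebraMap F K)).roots.toFinset).card := by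
        refine Finset.card_le_card_of_injOn (fun g => ((g.1 : Kˣ) : K)) ?_ ?_
        · intro g hg
          simp only [Finset.coe_filter, Finset.mem_univ, true_and, Set.mem_setOf_eq] at hg
          rw [Finset.mem_coe, Multiset.mem_toFinset, Polynomial.mem_roots
            (Polynomial.map_ne_zero f.1.2.1.ne_zero), Polynomial.IsRoot.def, Polynomial.eval_map_algebraMap]
          rw [← hg]
          exact minpoly.aeval F _
        · intro g _ g' _ e
          exact Subtype.ext (Units.ext e)
    _ ≤ (f.1.1.map (algebraMap F K)).roots.card := Multiset.toFinset_card_le _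
    _ ≤ n := (Polynomial.card_roots' _).trans_eq (by rw [Polynomial.natDegree_map, f.2])

end Poly

theorem totient_le_card_cusp {n : ℕ} (hn : 0 < n) :
    Nat.totient (Fintype.card F ^ n - 1) / n ≤
      Nat.card {χ : IrrCharacter (GL (Fin n) F) // 0 < n ∧ IsCusp (χ : GL (Fin n) F → ℂ)} := by
  have hq : 0 < Fintype.card F - 1 := by
    have := Fintype.one_lt_card (α := F)
    omega
  obtain ⟨h1, _, h3⟩ := graded_card (Sigma.fst : CuspType F → ℕ) (fun f : IrrPoly F => f.1.natDegree)
    (fun t => t.2.2.1) IrrPoly.deg_pos (fun m hm => by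
      obtain ⟨N, rfl⟩ := Nat.exists_eq_add_of_le' hm
      have h := card_MS (F := F) (n := N + 1) (Nat.succ_pos N)
      simp only [add_tsub_cancel_right] at h
      refine ⟨h.trans card_poly_MS.symm, ?_⟩
      rw [card_poly_MS]
      exact (Nat.mul_pos hq (pow_pos Fintype.card_pos _)).ne') n
  haveI := h3
  rw [← Nat.card_congr (Equiv.sigmaSubtype (β := fun m => {χ : IrrCharacter (GL (Fin m) F) //
    0 < m ∧ IsCusp (χ : GL (Fin m) F → ℂ)}) n)]
  show _ ≤ Nat.card {t : CuspType F // t.1 = n}
  rw [h1, Nat.div_le_iff_le_mul_add_pred hn]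
  have := totient_le_card_irr (F := F) hn
  omega

end Cfsg.Agent.GLCusp
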