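import Cfsg.Agent.Lib.GLCusp.Mackey

set_option autoImplicit false
set_option linter.unusedSectionVars false

/-!
Cuspidal data and the inner products of their inductions.
-/

namespace Cfsg.Agent.GLCusp

open Cfsg Matrix

universe u

variable {F : Type u} [Field F] [Fintype F] [DecidableEq F]

/-- The concatenated decomposition. -/
def concat {n k : ℕ} (d : Fin k → ℕ) (hn : ∑ a, d a = n) : (Σ a, Fin (d a)) ≃ Fin n :=
  finSigmaFinEquiv.trans (finCongr hn)

theorem concat_val {n k : ℕ} (d : Fin k → ℕ) (hn : ∑ a, d a = n) (x : Σ a, Fin (d a)) :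
    (concat d hn x : ℕ) = ∑ i ∈ Finset.Iio x.1, d i + x.2 := by
  show (finSigmaFinEquiv x : ℕ) = _
  rw [finSigmaFinEquiv_apply]
  congr 1
  refine Finset.sum_bij' (fun i _ => Fin.castLE x.1.2.le i)
    (fun j hj => ⟨(j : ℕ), Fin.lt_def.mp (Finset.mem_Iio.mp hj)⟩) ?_ ?_ ?_ ?_ ?_
  · intro i _
    exact Finset.mem_Iio.mpr (Fin.lt_def.mpr i.2)
  · intro j _
    exact Finset.mem_univ _
  · intro i _
    rfl
  · intro j _
    rfl
  · intro i _
    rfl

theorem concat_lt {n k : ℕ} (d : Fin k → ℕ) (hn : ∑ a, d a = n) {x y : Σ a, Fin (d a)}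
    (h : x.1 < y.1) : concat d hn x < concat d hn y := by
  rw [Fin.lt_def, concat_val, concat_val]
  have hle : ∑ i ∈ Finset.Iio x.1, d i + d x.1 ≤ ∑ i ∈ Finset.Iio y.1, d i := by
    rw [add_comm, ← Finset.sum_insert (show x.1 ∉ Finset.Iio x.1 by simp)]
    refine Finset.sum_le_sum_of_subset fun i hi => ?_
    rcases Finset.mem_insert.mp hi with rfl | hi
    · exact Finset.mem_Iio.mpr h
    · exact Finset.mem_Iio.mpr (lt_trans (Finset.mem_Iio.mp hi) h)
  have := x.2.2
  omega

theorem concat_lt_iff_same {n k : ℕ} (d : Fin k → ℕ) (hn : ∑ a, d a = n) (a : Fin k)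
    (r s : Fin (d a)) : concat d hn ⟨a, r⟩ < concat d hn ⟨a, s⟩ ↔ r < s := by
  rw [Fin.lt_def, concat_val, concat_val, Fin.lt_def]
  exact Nat.add_lt_add_iff_left

theorem label_mono {n k : ℕ} (d : Fin k → ℕ) (hn : ∑ a, d a = n) :
    Monotone fun i => ((concat d hn).symm i).1 := by
  intro i j hij
  by_contra h
  have := concat_lt d hn (not_le.mp h)
  simp only [Equiv.apply_symm_apply] at this
  exact absurd hij (not_le.mpr this)

theorem upper_mem_parab {n k : ℕ} (d : Fin k → ℕ) (hn : ∑ a, d a = n) {g : GL (Fin n) F}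
    (hg : g.val.BlockTriangular id) : g ∈ parab (concat d hn) := fun _ _ h =>
  hg (concat_lt d hn h)

variable (F) in
/-- A cuspidal type: a size together with a cuspidal irreducible character. -/
abbrev CuspType : Type u := Σ m : ℕ, {χ : IrrCharacter (GL (Fin m) F) // 0 < m ∧ IsCusp (χ : GL (Fin m) F → ℂ)}

/-- A cuspidal datum. -/
structure Datum (F : Type u) [Field F] [Fintype F] [DecidableEq F] (n : ℕ) where
  k : ℕ
  ty : Fin k → CuspType F
  hn : ∑ a, (ty a).1 = n

namespace Datum

variable {n : ℕ} (D D' : Datum F n)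

/-- The sizes. -/
abbrev d (a : Fin D.k) : ℕ := (D.ty a).1

/-- The decomposition. -/
abbrev E : (Σ a, Fin (D.d a)) ≃ Fin n := concat D.d D.hn

/-- The character of a block. -/
abbrev χ (a : Fin D.k) : GL (Fin (D.d a)) F → ℂ := ((D.ty a).2.1 : GL (Fin (D.d a)) F → ℂ)

theorem pos (a : Fin D.k) : 0 < D.d a := (D.ty a).2.2.1

theorem cusp (a : Fin D.k) : IsCusp (D.χ a) := (D.ty a).2.2.2

theorem isChar (a : Fin D.k) : IsCharacter _ (D.χ a) := CT.isCharacter_of_isIrr (D.ty a).2.1.2

/-- The function on the parabolic. -/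
noncomputable abbrev fn : parab (F := F) D.E → ℂ := parabFun D.E D.χ

/-- The induced character. -/
noncomputable def ind : GL (Fin n) F → ℂ := parabInd D.E D.χ

theorem isCharacter_ind : IsCharacter _ D.ind := by
  classical
  exact CT.isCharacter_indFun _ (isCharacter_parabFun D.E D.isChar)

theorem isClassFunction_fn : IsClassFunction _ D.fn :=
  isClassFunction_parabFun D.E fun a => CT.isClassFunction_of_isIrr (D.ty a).2.1.2

/-- Bijections of blocks preserving the types. -/
def Matching : Type := {π : Fin D.k ≃ Fin D'.k // ∀ a, D'.ty (π a) = D.ty a}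

noncomputable instance : Fintype (D.Matching D') := by
  classical
  exact inferInstanceAs (Fintype {π : Fin D.k ≃ Fin D'.k // ∀ a, D'.ty (π a) = D.ty a})

variable {D D'} in
theorem Matching.size (π : D.Matching D') (a : Fin D.k) : D.d a = D'.d (π.1 a) :=
  congrArg Sigma.fst (π.2 a).symm

/-- The permutation attached to a bijection of blocks preserving the sizes. -/
noncomputable def perm (π : Fin D.k ≃ Fin D'.k) (h : ∀ a, D.d a = D'.d (π a)) : Equiv.Perm (Fin n) :=
  D'.E.symm.trans (relabel D.E π h)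

theorem trans_perm (π : Fin D.k ≃ Fin D'.k) (h : ∀ a, D.d a = D'.d (π a)) :
    D'.E.trans (D.perm D' π h) = relabel D.E π h := by
  ext x
  simp [perm]

theorem perm_apply (π : Fin D.k ≃ Fin D'.k) (h : ∀ a, D.d a = D'.d (π a)) (a : Fin D.k)
    (r : Fin (D.d a)) : D.perm D' π h (D'.E ⟨π a, finCongr (h a) r⟩) = D.E ⟨a, r⟩ := by
  show relabel D.E π h (D'.E.symm (D'.E _)) = _
  rw [Equiv.symm_apply_apply]
  exact relabel_apply D.E π h a r

theorem classInner_types (t t' : CuspType F) (h : t.1 = t'.1) :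
    classInner (t.2.1 : GL (Fin t.1) F → ℂ)
      (fun g => (t'.2.1 : GL (Fin t'.1) F → ℂ) (glCast h g)) =
      @ite ℂ (t' = t) (Classical.propDecidable _) 1 0 := by
  obtain ⟨m, χ, hχ⟩ := t
  obtain ⟨m', η, hη⟩ := t'
  change m = m' at h
  subst h
  simp only [glCast_rfl]
  rw [CT.irr_inner χ.2 η.2]
  split_ifs with h1 h2 h2
  · rfl
  · exfalso
    apply h2
    have : χ = η := Subtype.ext h1
    subst this
    rfl
  · exfalso
    apply h1
    cases h2
    rfl
  · rfl

theorem eq_of_forall_le {k k' : ℕ} {π π' : Fin k ≃ Fin k'} (h : ∀ a, π a ≤ π' a) : π = π' := by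
  have h1 : ∑ a, (π a : ℕ) = ∑ a, (π' a : ℕ) := by
    rw [Equiv.sum_comp π (fun b => (b : ℕ)), Equiv.sum_comp π' (fun b => (b : ℕ))]
  have h2 := (Finset.sum_eq_sum_iff_of_le fun a _ => Fin.le_def.mp (h a)).mp h1
  exact Equiv.ext fun a => Fin.ext (h2 a (Finset.mem_univ _))

/-- Data with equal blocks at equal positions give the same double coset. -/
theorem mem_cell_of_label {σ τ : Equiv.Perm (Fin n)}
    (h : ∀ i, (D.E.symm (σ (τ.symm i))).1 = (D.E.symm i).1) :
    (GLUnipotent.permGL σ : GL (Fin n) F) ∈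
      cell (parab D.E) (parab D'.E) (GLUnipotent.permGL τ) := by
  refine ⟨⟨GLUnipotent.permGL (σ * τ⁻¹), fun x y hxy => ?_⟩, 1, ?_⟩
  · show (GLUnipotent.permGL (σ * τ⁻¹) : GL (Fin n) F).val (D.E x) (D.E y) = 0
    rw [GLUnipotent.permGL_apply, if_neg]
    intro e
    have h1 := h (D.E y)
    have h2 : (σ * τ⁻¹) (D.E y) = σ (τ.symm (D.E y)) := rfl
    rw [← h2, ← e, Equiv.symm_apply_apply, Equiv.symm_apply_apply] at h1
    exact hxy.ne h1.symm
  · rw [Subgroup.coe_one, mul_one, ← map_mul, inv_mul_cancel_right]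

theorem inner_ind : classInner D.ind D'.ind = (Fintype.card (D.Matching D') : ℂ) := by
  classical
  rw [ind, ind, parabInd, parabInd,
    classInner_ind_eq (parab D.E) (parab D'.E) D.fn D'.fn D.isClassFunction_fn D'.isClassFunction_fn
      (fun π : D.Matching D' => GLUnipotent.permGL (D.perm D' π.1 π.size)) (fun _ => 1) ?_ ?_ ?_]
  · simp
  · intro π
    rw [cellSum_permGL, trans_perm, pairing_relabel, Finset.prod_eq_one]
    · congr 2
      refine Nat.card_congr (Equiv.subtypeEquivRight fun p => ?_)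
      rw [← trans_perm, conj_permGL_mem]
    · intro a _
      rw [classInner_types _ _ (π.size a), if_pos (π.2 a)]
  · rintro ⟨π, hπ⟩ ⟨π', hπ'⟩ ⟨p, q, e⟩
    set σ := D.perm D' π (Matching.size ⟨π, hπ⟩) with hσ
    set σ' := D.perm D' π' (Matching.size ⟨π', hπ'⟩) with hσ'
    refine Subtype.ext (eq_of_forall_le fun a => ?_)
    change (GLUnipotent.permGL σ' : GL (Fin n) F) = p.1 * GLUnipotent.permGL σ * q.1 at e
    have e2 : p.1⁻¹ * GLUnipotent.permGL σ' = GLUnipotent.permGL σ * q.1 := by rw [e]; group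
    let r₀ : Fin (D.d a) := ⟨0, D.pos a⟩
    obtain ⟨s, hs⟩ : ∃ s, co D.E (p⁻¹ : parab (F := F) D.E).1 ⟨a, s⟩ ⟨a, r₀⟩ ≠ 0 := by
      by_contra hall
      push Not at hall
      have h1 := Matrix.ext_iff.mpr (congrArg Units.val (inv_mul_cancel (blockHom (F := F) D.E a p⁻¹))) r₀ r₀
      rw [Units.val_one] at h1
      rw [Units.val_mul, Matrix.mul_apply, Matrix.one_apply_eq, Finset.sum_eq_zero] at h1
      · exact zero_ne_one h1
      · intro t _
        rw [blockHom_val, hall, mul_zero]
    have h3 := Matrix.ext_iff.mpr (congrArg Units.val e2) (D.E ⟨a, s⟩)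
      (D'.E ⟨π' a, finCongr (Matching.size ⟨π', hπ'⟩ a) r₀⟩)
    rw [Units.val_mul, Matrix.mul_apply, Finset.sum_eq_single (D.E ⟨a, r₀⟩), GLUnipotent.permGL_apply,
      if_pos, mul_one, Units.val_mul, Matrix.mul_apply,
      Finset.sum_eq_single (D'.E ⟨π a, finCongr (Matching.size ⟨π, hπ⟩ a) s⟩), GLUnipotent.permGL_apply,
      if_pos, one_mul] at h3
    rotate_left
    · exact (perm_apply D D' π _ a s).symm
    · intro l _ hl
      rw [GLUnipotent.permGL_apply, if_neg, zero_mul]
      intro e'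
      apply hl
      apply σ.injective
      rw [← e']
      exact (perm_apply D D' π _ a s).symm
    · simp
    · exact (perm_apply D D' π' _ a r₀).symm
    · intro l _ hl
      rw [GLUnipotent.permGL_apply, if_neg, mul_zero]
      intro e'
      apply hl
      rw [e']
      exact perm_apply D D' π' _ a r₀
    · simp
    by_contra hlt
    refine hs (?_ : _ = (0 : F))
    show (p.1⁻¹).val _ _ = 0
    rw [h3]
    exact q.2 _ _ (not_le.mp hlt)
  · intro y hy
    obtain ⟨σ, b, b', hb, hb', rfl⟩ := GLUnipotent.exists_bruhat y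
    let P : parab (F := F) D.E := ⟨b, upper_mem_parab _ _ hb⟩
    let Q : parab (F := F) D'.E := ⟨b', upper_mem_parab _ _ hb'⟩
    rw [show b * GLUnipotent.permGL σ * b' = (P : GL (Fin n) F) * GLUnipotent.permGL σ * (Q : GL (Fin n) F) from rfl,
      cellSum_mul _ _ _ _ D.isClassFunction_fn D'.isClassFunction_fn, cellSum_permGL] at hy
    have hl : ∀ a r s, ((D'.E.trans σ).symm (D.E ⟨a, r⟩)).1 = ((D'.E.trans σ).symm (D.E ⟨a, s⟩)).1 := by
      intro a r s
      by_contra hne
      exact hy (pairing_eq_zero _ _ _ _ D.isChar D.cusp a r s hne)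
    have hl' : ∀ a r s, (D.E.symm ((D'.E.trans σ) ⟨a, r⟩)).1 = (D.E.symm ((D'.E.trans σ) ⟨a, s⟩)).1 := by
      intro a r s
      by_contra hne
      rw [pairing_swap, pairing_eq_zero _ _ _ _ D'.isChar D'.cusp a r s hne, map_zero] at hy
      exact hy rfl
    let π₀ : Fin D.k → Fin D'.k := fun a => ((D'.E.trans σ).symm (D.E ⟨a, ⟨0, D.pos a⟩⟩)).1
    let π₁ : Fin D'.k → Fin D.k := fun b => (D.E.symm ((D'.E.trans σ) ⟨b, ⟨0, D'.pos b⟩⟩)).1
    have h0 : ∀ x, ((D'.E.trans σ).symm (D.E x)).1 = π₀ x.1 := fun x => hl x.1 x.2 _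
    have h1 : ∀ x, (D.E.symm ((D'.E.trans σ) x)).1 = π₁ x.1 := fun x => hl' x.1 x.2 _
    let π : Fin D.k ≃ Fin D'.k :=
      { toFun := π₀
        invFun := π₁
        left_inv := fun a => by
          have := h1 ((D'.E.trans σ).symm (D.E ⟨a, ⟨0, D.pos a⟩⟩))
          rw [Equiv.apply_symm_apply, Equiv.symm_apply_apply] at this
          exact this.symm
        right_inv := fun b => by
          have := h0 (D.E.symm ((D'.E.trans σ) ⟨b, ⟨0, D'.pos b⟩⟩))
          rw [Equiv.apply_symm_apply, Equiv.symm_apply_apply] at this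
          exact this.symm }
    have hd : ∀ a, D.d a = D'.d (π a) := fun a => by
      have e : {x : Σ a, Fin (D.d a) // x.1 = a} ≃ {x : Σ b, Fin (D'.d b) // x.1 = π a} :=
        (D.E.trans (D'.E.trans σ).symm).subtypeEquiv fun x => by
          show x.1 = a ↔ ((D'.E.trans σ).symm (D.E x)).1 = π a
          rw [h0]
          exact π.injective.eq_iff.symm
      have := Fintype.card_congr ((Equiv.sigmaSubtype a).symm.trans (e.trans (Equiv.sigmaSubtype (π a))))
      simpa using this
    have hmem : (GLUnipotent.permGL σ : GL (Fin n) F) ∈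
        cell (parab D.E) (parab D'.E) (GLUnipotent.permGL (D.perm D' π hd)) := by
      refine mem_cell_of_label D D' fun i => ?_
      obtain ⟨x, rfl⟩ := (D.perm D' π hd).surjective i
      obtain ⟨⟨b, t⟩, rfl⟩ := D'.E.surjective x
      obtain ⟨⟨a, r⟩, hz⟩ :=
        (Equiv.sigmaCongr (β₂ := fun b => Fin (D'.d b)) π fun a => finCongr (hd a)).surjective ⟨b, t⟩
      rw [← hz, Equiv.symm_apply_apply]
      change (D.E.symm (σ (D'.E ⟨π a, finCongr (hd a) r⟩))).1 =
        (D.E.symm (D.perm D' π hd (D'.E ⟨π a, finCongr (hd a) r⟩))).1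
      rw [perm_apply D D' π hd a r, Equiv.symm_apply_apply]
      exact (h1 ⟨π a, _⟩).trans (π.symm_apply_apply a)
    obtain ⟨p, q, e⟩ := hmem
    rw [← cellSum_permGL, e, cellSum_mul _ _ _ _ D.isClassFunction_fn D'.isClassFunction_fn,
      cellSum_permGL, trans_perm, pairing_relabel] at hy
    have hπ : ∀ a, D'.ty (π a) = D.ty a := by
      intro a
      by_contra hne
      refine hy (mul_eq_zero_of_right _ (Finset.prod_eq_zero (Finset.mem_univ a) ?_))
      rw [classInner_types _ _ (hd a), if_neg hne]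
    refine ⟨⟨π, hπ⟩, P * p, q * Q, ?_⟩
    show b * GLUnipotent.permGL σ * b' = _
    rw [e, Subgroup.coe_mul, Subgroup.coe_mul]
    simp only [P, Q, mul_assoc]

variable {D D'}

theorem card_matching_eq (π₀ : D.Matching D') :
    Fintype.card (D.Matching D') = Fintype.card (D.Matching D) :=
  Fintype.card_congr
    { toFun := fun π => ⟨π.1.trans π₀.1.symm, fun a => by
        rw [Equiv.trans_apply, ← π₀.2 (π₀.1.symm (π.1 a)), Equiv.apply_symm_apply]
        exact π.2 a⟩
      invFun := fun π => ⟨π.1.trans π₀.1, fun a => by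
        rw [Equiv.trans_apply, π₀.2]
        exact π.2 a⟩
      left_inv := fun π => Subtype.ext (by ext a; simp)
      right_inv := fun π => Subtype.ext (by ext a; simp) }

theorem ind_eq_of_matching (π₀ : D.Matching D') : D.ind = D'.ind := by
  classical
  have π₁ : D'.Matching D := ⟨π₀.1.symm, fun a => by
    conv_rhs => rw [← π₀.1.apply_symm_apply a]
    exact (π₀.2 _).symm⟩
  have hself : Fintype.card (D.Matching D) = Fintype.card (D'.Matching D') := by
    rw [← card_matching_eq π₀, ← card_matching_eq π₁]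
    exact Fintype.card_congr
      { toFun := fun π => ⟨π.1.symm, fun a => by
          conv_rhs => rw [← π.1.apply_symm_apply a]
          exact (π.2 _).symm⟩
        invFun := fun π => ⟨π.1.symm, fun a => by
          conv_rhs => rw [← π.1.apply_symm_apply a]
          exact (π.2 _).symm⟩
        left_inv := fun π => Subtype.ext (by simp)
        right_inv := fun π => Subtype.ext (by simp) }
  refine sub_eq_zero.mp (CT.classInner_self_eq_zero ?_)
  rw [CT.classInner_sub_left, CT.classInner_sub_right, CT.classInner_sub_right, inner_ind, inner_ind,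
    inner_ind, inner_ind, card_matching_eq π₀, card_matching_eq π₁, hself]
  ring

theorem inner_ind_eq_zero (h : IsEmpty (D.Matching D')) : classInner D.ind D'.ind = 0 := by
  rw [inner_ind, Fintype.card_eq_zero, Nat.cast_zero]

end Datum

end Cfsg.Agent.GLCusp
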