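import Cfsg.Agent.Lib.GLCusp.Parab

set_option autoImplicit false
set_option linter.unusedSectionVars false

/-!
Inner products of inductions of cuspidal data.
-/

namespace Cfsg.Agent.GLCusp

open Cfsg Matrix
open scoped ComplexConjugate

universe u

variable {F : Type u} [Field F] [Fintype F] [DecidableEq F]

/-- Transport between equal sizes. -/
def glCast {a b : ℕ} (h : a = b) : GL (Fin a) F →* GL (Fin b) F :=
  Units.map (Matrix.reindexAlgEquiv F F (finCongr h)).toRingEquiv.toRingHom.toMonoidHom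

theorem glCast_rfl {a : ℕ} (g : GL (Fin a) F) : glCast rfl g = g := by
  refine Units.ext (Matrix.ext fun i j => ?_)
  simp [glCast]

theorem glCast_val {a b : ℕ} (h : a = b) (g : GL (Fin a) F) (i j : Fin a) :
    (glCast h g : Matrix (Fin b) (Fin b) F) (finCongr h i) (finCongr h j) =
      (g : Matrix (Fin a) (Fin a) F) i j := by
  subst h
  simp [glCast]

theorem sum_comp_hom {G L : Type*} [Group G] [Fintype G] [Group L] [Fintype L] (φ : G →* L)
    (hφ : Function.Surjective φ) (f : L → ℂ) :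
    ∑ g : G, f (φ g) = (Nat.card G : ℂ) * (Nat.card L : ℂ)⁻¹ * ∑ l : L, f l := by
  classical
  obtain ⟨s, hs⟩ := hφ.hasRightInverse
  have e : ∀ l, ∑ g : G, (if φ g = l then (1 : ℂ) else 0) = ∑ g : G, if φ g = 1 then (1 : ℂ) else 0 :=
    fun l => Fintype.sum_equiv (Equiv.mulRight (s l)⁻¹) _ _ fun g => by simp [hs l, mul_inv_eq_one]
  have h1 : ∑ g : G, f (φ g) = ∑ l : L, (∑ g : G, if φ g = l then (1 : ℂ) else 0) * f l := by
    simp only [Finset.sum_mul, ite_mul, one_mul, zero_mul]
    rw [Finset.sum_comm]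
    simp
  have h2 : (Nat.card G : ℂ) = (Nat.card L : ℂ) * ∑ g : G, if φ g = 1 then (1 : ℂ) else 0 := by
    have : ∑ l : L, ∑ g : G, (if φ g = l then (1 : ℂ) else 0) = (Nat.card G : ℂ) := by
      rw [Finset.sum_comm]
      simp
    rw [← this, Finset.sum_congr rfl fun l _ => e l, Finset.sum_const, Finset.card_univ, nsmul_eq_mul,
      Nat.card_eq_fintype_card]
  have hL : (Nat.card L : ℂ) ≠ 0 := Nat.cast_ne_zero.mpr Nat.card_pos.ne'
  rw [h1, Finset.sum_congr rfl fun l _ => by rw [e l], ← Finset.mul_sum, h2]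
  field_simp

section Pair

variable {n k k' : ℕ} {d : Fin k → ℕ} {d' : Fin k' → ℕ}
  (E : (Σ a, Fin (d a)) ≃ Fin n) (E' : (Σ a, Fin (d' a)) ≃ Fin n)
  (χ : ∀ a, GL (Fin (d a)) F → ℂ) (η : ∀ a, GL (Fin (d' a)) F → ℂ)

open Classical in
/-- Pairing of two parabolic functions over the intersection. -/
noncomputable def pairing : ℂ :=
  ∑ g : GL (Fin n) F, extendByZero (parab E) (parabFun E χ) g *
    conj (extendByZero (parab E') (parabFun E' η) g)

theorem pairing_swap : pairing E E' χ η = conj (pairing E' E η χ) := by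
  simp only [pairing, map_sum, map_mul, Complex.conj_conj, mul_comm]

theorem cellSum_permGL [Fintype (parab (F := F) E)] [Fintype (parab (F := F) E')]
    (σ : Equiv.Perm (Fin n)) :
    cellSum (parab E) (parab E') (parabFun E χ) (parabFun E' η) (GLUnipotent.permGL σ) =
      pairing E (E'.trans σ) χ η := by
  classical
  rw [cellSum, pairing,
    CT.sum_extendByZero (parab E) (parabFun E χ)
      (fun g => conj (extendByZero (parab (E'.trans σ)) (parabFun (E'.trans σ) η) g))]
  refine Finset.sum_congr rfl fun p _ => ?_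
  congr 2
  by_cases hp : (p : GL (Fin n) F) ∈ parab (E'.trans σ)
  · rw [CT.extendByZero_mem _ _ ((conj_permGL_mem E' σ _).mpr hp), CT.extendByZero_mem _ _ hp]
    simp only [parabFun]
    exact Finset.prod_congr rfl fun a _ => by
      rw [blockHom_conj_permGL E' σ _ ((conj_permGL_mem E' σ _).mpr hp) hp]
  · rw [CT.extendByZero_not_mem _ _ (fun h => hp ((conj_permGL_mem E' σ _).mp h)),
      CT.extendByZero_not_mem _ _ hp]

theorem pairing_eq_zero (hχ : ∀ a, IsCharacter _ (χ a)) (hc : ∀ a, IsCusp (χ a))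
    (a : Fin k) (r s : Fin (d a)) (hne : (E'.symm (E ⟨a, r⟩)).1 ≠ (E'.symm (E ⟨a, s⟩)).1) :
    pairing E E' χ η = 0 := by
  classical
  let l : Fin (d a) → Fin k' := fun r => (E'.symm (E ⟨a, r⟩)).1
  obtain ⟨m, -, hm⟩ := Finset.exists_min_image Finset.univ l ⟨r, Finset.mem_univ _⟩
  let S : Finset (Fin (d a)) := Finset.univ.filter fun t => l t = l m
  have hS : S.Nonempty := ⟨m, by simp [S]⟩
  have hS' : S ≠ Finset.univ := fun h => hne (by
    have h1 : r ∈ S := h ▸ Finset.mem_univ r
    have h2 : s ∈ S := h ▸ Finset.mem_univ s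
    simp only [S, Finset.mem_filter] at h1 h2
    exact h1.2.trans h2.2.symm)
  let e : rad (F := F) S → GL (Fin n) F := fun u => blkDiag E (Pi.mulSingle a (u : GL (Fin (d a)) F))
  have heP : ∀ u, e u ∈ parab E := fun u => blkDiag_mem E _
  have hone : ∀ u x y, y.1 ≤ x.1 → co E' (e u) x y = (1 : Matrix _ _ F) x y := by
    intro u x y hxy
    obtain ⟨p, rfl⟩ : ∃ p, x = E'.symm (E p) := ⟨E.symm (E' x), by simp⟩
    obtain ⟨q, rfl⟩ : ∃ q, y = E'.symm (E q) := ⟨E.symm (E' y), by simp⟩
    have h1 : co E' (e u) (E'.symm (E p)) (E'.symm (E q)) = co E (e u) p q := by simp [co]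
    have h2 : (1 : Matrix (Σ a, Fin (d' a)) (Σ a, Fin (d' a)) F) (E'.symm (E p)) (E'.symm (E q)) =
        (1 : Matrix (Σ a, Fin (d a)) (Σ a, Fin (d a)) F) p q := by
      rcases eq_or_ne p q with rfl | hpq
      · simp
      · rw [Matrix.one_apply_ne hpq, Matrix.one_apply_ne]
        simpa using hpq
    rw [h1, h2, co_blkDiag]
    obtain ⟨b, i⟩ := p
    obtain ⟨b', j⟩ := q
    rcases eq_or_ne b b' with rfl | hb
    · rw [Matrix.blockDiagonal'_apply_eq]
      have h3 : (1 : Matrix (Σ a, Fin (d a)) (Σ a, Fin (d a)) F) ⟨b, i⟩ ⟨b, j⟩ =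
          (1 : Matrix _ _ F) i j := by
        rcases eq_or_ne i j with rfl | hij
        · simp
        · rw [Matrix.one_apply_ne hij, Matrix.one_apply_ne]
          simpa using hij
      rw [h3]
      rcases eq_or_ne b a with rfl | hba
      · rw [Pi.mulSingle_eq_same]
        refine mem_rad.mp u.2 i j ?_
        rintro ⟨hi, hj⟩
        simp only [S, Finset.mem_filter, Finset.mem_univ, true_and] at hi hj
        exact hj (le_antisymm (hxy.trans_eq hi) (hm j (Finset.mem_univ _)))
      · rw [Pi.mulSingle_eq_of_ne hba]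
        rfl
    · rw [Matrix.blockDiagonal'_apply_ne _ _ _ hb, Matrix.one_apply_ne]
      exact fun e => hb (congrArg Sigma.fst e)
  have heQ : ∀ u, e u ∈ parab E' := fun u x y h => by
    rw [hone u x y h.le, Matrix.one_apply_ne]
    exact fun e => h.ne (congrArg Sigma.fst e).symm
  have hblk : ∀ u b, blockHom E' b ⟨e u, heQ u⟩ = 1 := fun u b => Units.ext (Matrix.ext fun i j => by
    rw [blockHom_val]
    show co E' (e u) ⟨b, i⟩ ⟨b, j⟩ = _
    rw [hone u ⟨b, i⟩ ⟨b, j⟩ le_rfl]
    rcases eq_or_ne i j with rfl | hij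
    · simp
    · simp [Matrix.one_apply_ne hij, hij])
  set fE := extendByZero (parab E) (parabFun E χ) with hfE
  set fQ := extendByZero (parab E') (parabFun E' η) with hfQ
  have hQ : ∀ (g : GL (Fin n) F) u, fQ (g * e u) = fQ g := by
    intro g u
    by_cases hg : g ∈ parab E'
    · rw [hfQ, CT.extendByZero_mem _ _ (mul_mem hg (heQ u)), CT.extendByZero_mem _ _ hg]
      simp only [parabFun]
      refine Finset.prod_congr rfl fun b _ => ?_
      rw [show (⟨g * e u, mul_mem hg (heQ u)⟩ : parab E') = ⟨g, hg⟩ * ⟨e u, heQ u⟩ from rfl, map_mul,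
        hblk, mul_one]
    · rw [hfQ, CT.extendByZero_not_mem _ _ hg, CT.extendByZero_not_mem]
      exact fun h => hg ((Subgroup.mul_mem_cancel_right _ (heQ u)).mp h)
  have hP : ∀ g : GL (Fin n) F, ∑ u : rad S, fE (g * e u) = 0 := by
    intro g
    by_cases hg : g ∈ parab E
    · have h1 : ∀ u, fE (g * e u) =
          χ a (blockHom E a ⟨g, hg⟩ * u) * ∏ b ∈ Finset.univ.erase a, χ b (blockHom E b ⟨g, hg⟩) := by
        intro u
        rw [hfE, CT.extendByZero_mem _ _ (mul_mem hg (heP u)),
          show (⟨g * e u, mul_mem hg (heP u)⟩ : parab E) = ⟨g, hg⟩ * ⟨e u, heP u⟩ from rfl]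
        simp only [parabFun, map_mul, e, blockHom_blkDiag]
        rw [← Finset.mul_prod_erase _ _ (Finset.mem_univ a), Pi.mulSingle_eq_same]
        congr 1
        refine Finset.prod_congr rfl fun b hb => ?_
        rw [Pi.mulSingle_eq_of_ne (Finset.ne_of_mem_erase hb), mul_one]
      rw [Finset.sum_congr rfl fun u _ => h1 u, ← Finset.sum_mul,
        sum_translate_eq_zero (hχ a) _ (hc a S hS hS') _, zero_mul]
    · refine Finset.sum_eq_zero fun u _ => ?_
      rw [hfE, CT.extendByZero_not_mem]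
      exact fun h => hg ((Subgroup.mul_mem_cancel_right _ (heP u)).mp h)
  have h0 : (Fintype.card (rad (F := F) S) : ℂ) * pairing E E' χ η = 0 := by
    calc (Fintype.card (rad (F := F) S) : ℂ) * pairing E E' χ η
        = ∑ u : rad (F := F) S, ∑ g : GL (Fin n) F, fE (g * e u) * conj (fQ (g * e u)) := by
          have hsh : ∀ u : rad (F := F) S, ∑ g : GL (Fin n) F, fE (g * e u) * conj (fQ (g * e u)) =
              pairing E E' χ η := fun u =>
            Fintype.sum_equiv (Equiv.mulRight (e u)) (fun g => fE (g * e u) * conj (fQ (g * e u)))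
              (fun g => fE g * conj (fQ g)) fun g => rfl
          rw [Finset.sum_congr rfl fun u _ => hsh u, Finset.sum_const, Finset.card_univ, nsmul_eq_mul]
      _ = ∑ g : GL (Fin n) F, (∑ u : rad (F := F) S, fE (g * e u)) * conj (fQ g) := by
          rw [Finset.sum_comm]
          simp only [hQ, Finset.sum_mul]
      _ = 0 := Finset.sum_eq_zero fun g _ => by rw [hP g, zero_mul]
  exact (mul_eq_zero.mp h0).resolve_left (Nat.cast_ne_zero.mpr Fintype.card_ne_zero)

variable (π : Fin k ≃ Fin k') (hd : ∀ a, d a = d' (π a))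

/-- The decomposition with the blocks of `E` listed in the order given by `π`. -/
def relabel : (Σ a, Fin (d' a)) ≃ Fin n :=
  (Equiv.sigmaCongr (β₂ := fun b => Fin (d' b)) π fun a => finCongr (hd a)).symm.trans E

theorem relabel_apply (a : Fin k) (r : Fin (d a)) :
    relabel E π hd ⟨π a, finCongr (hd a) r⟩ = E ⟨a, r⟩ := by
  show E ((Equiv.sigmaCongr (β₂ := fun b => Fin (d' b)) π fun a => finCongr (hd a)).symm _) = _
  rw [show (⟨π a, finCongr (hd a) r⟩ : Σ a, Fin (d' a)) =
    (Equiv.sigmaCongr (β₂ := fun b => Fin (d' b)) π fun a => finCongr (hd a)) ⟨a, r⟩ from rfl, Equiv.symm_apply_apply]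

open Classical in
theorem pairing_relabel [Fintype (parab (F := F) E)] :
    pairing E (relabel E π hd) χ η =
      (Nat.card {p : parab (F := F) E // (p : GL (Fin n) F) ∈ parab (relabel E π hd)} : ℂ) *
        ∏ a, classInner (χ a) (fun g => η (π a) (glCast (hd a) g)) := by
  classical
  set E' := relabel E π hd with hE'
  have hblk : ∀ (g : GL (Fin n) F) (hg : g ∈ parab E) (hg' : g ∈ parab E') (a : Fin k),
      blockHom E' (π a) ⟨g, hg'⟩ = glCast (hd a) (blockHom E a ⟨g, hg⟩) := by
    intro g hg hg' a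
    refine Units.ext (Matrix.ext fun i j => ?_)
    obtain ⟨i, rfl⟩ := (finCongr (hd a)).surjective i
    obtain ⟨j, rfl⟩ := (finCongr (hd a)).surjective j
    rw [glCast_val, blockHom_val, blockHom_val]
    simp only [co, Matrix.submatrix_apply, hE', relabel_apply]
  let H : Subgroup (GL (Fin n) F) := parab E ⊓ parab E'
  let Φ : H →* ∀ a, GL (Fin (d a)) F :=
    MonoidHom.pi fun a => (blockHom E a).comp (Subgroup.inclusion inf_le_left)
  have hΦ : Function.Surjective Φ := by
    intro l
    refine ⟨⟨blkDiag E l, blkDiag_mem E l, fun x y h => ?_⟩, funext fun a => blockHom_blkDiag E l a⟩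
    obtain ⟨⟨a, r⟩, rfl⟩ := (Equiv.sigmaCongr (β₂ := fun b => Fin (d' b)) π fun a => finCongr (hd a)).surjective x
    obtain ⟨⟨b, t⟩, rfl⟩ := (Equiv.sigmaCongr (β₂ := fun b => Fin (d' b)) π fun a => finCongr (hd a)).surjective y
    have hne : a ≠ b := by
      rintro rfl
      exact lt_irrefl _ h
    show co E' _ ⟨π a, finCongr (hd a) r⟩ ⟨π b, finCongr (hd b) t⟩ = 0
    simp only [co, Matrix.submatrix_apply, hE', relabel_apply]
    have := congrFun₂ (co_blkDiag E l) ⟨a, r⟩ ⟨b, t⟩
    simp only [co, Matrix.submatrix_apply] at this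
    rw [this, Matrix.blockDiagonal'_apply_ne _ _ _ hne]
  let G₀ : GL (Fin n) F → ℂ := fun g =>
    extendByZero (parab E) (parabFun E χ) g * conj (extendByZero (parab E') (parabFun E' η) g)
  have h1 : pairing E E' χ η = ∑ p : H, G₀ p := by
    rw [← Finset.sum_subtype (Finset.univ.filter fun g : GL (Fin n) F => g ∈ H) (by simp) G₀]
    symm
    refine Finset.sum_subset (Finset.subset_univ _) fun g _ hg => ?_
    simp only [Finset.mem_filter, Finset.mem_univ, true_and, H, Subgroup.mem_inf, not_and] at hg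
    simp only [G₀]
    by_cases h : g ∈ parab E
    · rw [CT.extendByZero_not_mem (parab E') _ (hg h), map_zero, mul_zero]
    · rw [CT.extendByZero_not_mem (parab E) _ h, zero_mul]
  have h2 : ∀ p : H, G₀ p = ∏ a, χ a (Φ p a) * conj (η (π a) (glCast (hd a) (Φ p a))) := by
    intro p
    show _ * _ = _
    rw [CT.extendByZero_mem _ _ p.2.1, CT.extendByZero_mem _ _ p.2.2, Finset.prod_mul_distrib]
    simp only [parabFun, map_prod]
    congr 1
    rw [← Equiv.prod_comp π]
    exact Finset.prod_congr rfl fun a _ => by rw [hblk _ p.2.1 p.2.2 a]; rfl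
  rw [h1, Finset.sum_congr rfl fun p _ => h2 p,
    sum_comp_hom Φ hΦ (fun l => ∏ a, χ a (l a) * conj (η (π a) (glCast (hd a) (l a)))),
    show Nat.card H = Nat.card {p : parab (F := F) E // (p : GL (Fin n) F) ∈ parab E'} from
      Nat.card_congr ((Equiv.subtypeSubtypeEquivSubtypeInter (fun g => g ∈ parab E) (fun g => g ∈ parab E')).symm),
    mul_assoc]
  congr 1
  simp only [classInner]
  rw [Finset.prod_mul_distrib, Fintype.prod_sum, Nat.card_pi]
  push_cast
  rw [Finset.prod_inv_distrib]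

end Pair

end Cfsg.Agent.GLCusp
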