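import Cfsg.Agent.Lib.GLCusp.Whittaker

set_option autoImplicit false
set_option linter.unusedSectionVars false

/-!
Monomial matrices supporting the Gelfand–Graev algebra and their number.
-/

namespace Cfsg.Agent.GLCusp

open Cfsg Matrix
open scoped ComplexConjugate Classical

universe u

variable {F : Type u} [Field F] [Fintype F] [DecidableEq F] {n : ℕ}

/-- The transvection as a unit. -/
def tv {i j : Fin n} (h : i ≠ j) (s : F) : GL (Fin n) F :=
  Matrix.GeneralLinearGroup.mkOfDetNeZero (Matrix.transvection i j s)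
    (by rw [Matrix.det_transvection_of_ne _ _ h]; exact one_ne_zero)

theorem tv_val {i j : Fin n} (h : i ≠ j) (s : F) (r c : Fin n) :
    (tv h s : Matrix (Fin n) (Fin n) F) r c =
      (1 : Matrix (Fin n) (Fin n) F) r c + if i = r ∧ j = c then s else 0 := by
  show Matrix.transvection i j s r c = _
  simp [Matrix.transvection, Matrix.single_apply]

theorem tv_mem {i j : Fin n} (h : i < j) (s : F) : tv h.ne s ∈ uni n := by
  intro r c hrc
  rw [tv_val, if_neg, add_zero]
  rintro ⟨rfl, rfl⟩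
  rcases hrc with e | e
  · exact absurd e (not_le.mpr h)
  · exact Nat.not_lt_zero _ e

theorem superSum_tv {i j : Fin n} (h : i < j) (s : F) :
    superSum 0 (tv h.ne s) = if (j : ℕ) = i + 1 then s else 0 := by
  rw [superSum, Finset.sum_eq_single i, Finset.sum_eq_single j]
  · simp [tv_val, Matrix.one_apply_ne h.ne]
  · intro c _ hc
    split_ifs with hc'
    · rw [tv_val, Matrix.one_apply_ne, if_neg (fun e => hc e.2.symm), add_zero]
      intro e
      rw [← e] at hc'
      omega
    · rfl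
  · simp
  · intro r _ hr
    refine Finset.sum_eq_zero fun c _ => ?_
    split_ifs with hc'
    · rw [tv_val, Matrix.one_apply_ne, if_neg (fun e => hr e.1.symm), add_zero]
      intro e
      rw [← e] at hc'
      omega
    · rfl
  · simp

/-- A diagonal unit. -/
def dgl (t : Fin n → Fˣ) : GL (Fin n) F where
  val := Matrix.diagonal fun i => (t i : F)
  inv := Matrix.diagonal fun i => ((t i)⁻¹ : Fˣ)
  val_inv := by simp [Matrix.diagonal_mul_diagonal]
  inv_val := by simp [Matrix.diagonal_mul_diagonal]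

/-- A monomial matrix. -/
def mon (m : Equiv.Perm (Fin n) × (Fin n → Fˣ)) : GL (Fin n) F := GLUnipotent.permGL m.1 * dgl m.2

theorem mon_val (m : Equiv.Perm (Fin n) × (Fin n → Fˣ)) (i j : Fin n) :
    (mon m : Matrix (Fin n) (Fin n) F) i j = if i = m.1 j then (m.2 j : F) else 0 := by
  rw [mon, Units.val_mul]
  show ((GLUnipotent.permGL m.1 : GL (Fin n) F).val * Matrix.diagonal fun i => (m.2 i : F)) i j = _
  rw [Matrix.mul_diagonal, GLUnipotent.permGL_apply]
  split_ifs <;> simp

theorem conj_mon_val (m : Equiv.Perm (Fin n) × (Fin n → Fˣ)) (g : GL (Fin n) F) (i j : Fin n) :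
    (((mon m)⁻¹ * g * mon m : GL (Fin n) F) : Matrix (Fin n) (Fin n) F) i j =
      (m.2 i : F)⁻¹ * (g : Matrix (Fin n) (Fin n) F) (m.1 i) (m.1 j) * m.2 j := by
  have e : (mon m)⁻¹ * g * mon m =
      (dgl m.2)⁻¹ * ((GLUnipotent.permGL m.1)⁻¹ * g * GLUnipotent.permGL m.1) * dgl m.2 := by
    rw [mon]; group
  rw [e, Units.val_mul, Units.val_mul]
  show ((Matrix.diagonal fun i => (((m.2 i)⁻¹ : Fˣ) : F)) *
    ((GLUnipotent.permGL m.1)⁻¹ * g * GLUnipotent.permGL m.1 : GL (Fin n) F).val *
      Matrix.diagonal fun i => (m.2 i : F)) i j = _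
  rw [Matrix.mul_diagonal, Matrix.diagonal_mul, co_permGL, Units.val_inv_eq_inv_val]

/-- The monomial supports a bi-equivariant function. -/
def Supp (m : Equiv.Perm (Fin n) × (Fin n → Fˣ)) : Prop :=
  ∀ i j, i < j → m.1 i < m.1 j →
    ((m.1 j : ℕ) = m.1 i + 1 ↔ (j : ℕ) = i + 1) ∧ ((j : ℕ) = i + 1 → m.2 i = m.2 j)

theorem psi_eq_of_supp {m : Equiv.Perm (Fin n) × (Fin n → Fˣ)} (hm : Supp m) {g : GL (Fin n) F}
    (hg : g ∈ uni n) (hg' : (mon m)⁻¹ * g * mon m ∈ uni n) :
    superSum 0 ((mon m)⁻¹ * g * mon m) = superSum 0 g := by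
  have R : superSum 0 g = ∑ i : Fin n, ∑ j : Fin n,
      if (m.1 j : ℕ) = m.1 i + 1 then (g : Matrix (Fin n) (Fin n) F) (m.1 i) (m.1 j) else 0 := by
    rw [superSum, ← Equiv.sum_comp m.1]
    refine Finset.sum_congr rfl fun i _ => ?_
    rw [← Equiv.sum_comp m.1]
    simp only [Nat.zero_le, true_and]
  rw [R, superSum]
  refine Finset.sum_congr rfl fun i _ => Finset.sum_congr rfl fun j _ => ?_
  simp only [Nat.zero_le, true_and, conj_mon_val]
  by_cases h : i < j ∧ m.1 i < m.1 j
  · obtain ⟨h1, h2⟩ := hm i j h.1 h.2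
    by_cases hs : (j : ℕ) = i + 1
    · rw [if_pos hs, if_pos (h1.mpr hs), h2 hs, mul_comm (m.2 j : F)⁻¹, mul_assoc,
        inv_mul_cancel₀ (Units.ne_zero _), mul_one]
    · rw [if_neg hs, if_neg (mt h1.mp hs)]
  · have hne : ∀ e : (j : ℕ) = i + 1 ∨ (m.1 j : ℕ) = m.1 i + 1, i ≠ j := by
      rintro e rfl
      omega
    by_cases hs : (j : ℕ) = i + 1
    · have hlt : i < j := Fin.lt_def.mpr (by omega)
      have h0 : (g : Matrix (Fin n) (Fin n) F) (m.1 i) (m.1 j) = 0 := by
        rw [hg _ _ (Or.inl (not_lt.mp fun e => h ⟨hlt, e⟩)), Matrix.one_apply_ne]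
        exact fun e => hne (Or.inl hs) (m.1.injective e)
      simp [h0]
    · rw [if_neg hs]
      by_cases hs' : (m.1 j : ℕ) = m.1 i + 1
      · rw [if_pos hs']
        have hlt : m.1 i < m.1 j := Fin.lt_def.mpr (by omega)
        have h0 := hg' i j (Or.inl (not_lt.mp fun e => h ⟨e, hlt⟩))
        rw [conj_mon_val, Matrix.one_apply_ne (hne (Or.inr hs'))] at h0
        simp only [mul_eq_zero, inv_eq_zero, Units.ne_zero, false_or, or_false] at h0
        exact h0.symm
      · rw [if_neg hs']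

theorem exists_witness {m : Equiv.Perm (Fin n) × (Fin n → Fˣ)} (hm : ¬Supp m) :
    ∃ g : GL (Fin n) F, g ∈ uni n ∧ (mon m)⁻¹ * g * mon m ∈ uni n ∧
      psi0 F (superSum 0 g) ≠ psi0 F (superSum 0 ((mon m)⁻¹ * g * mon m)) := by
  simp only [Supp, not_forall] at hm
  obtain ⟨i, j, hij, hσ, hfail⟩ := hm
  obtain ⟨w, hw⟩ := psi0_ne_one (F := F)
  set c : F := (m.2 i : F)⁻¹ * m.2 j with hc
  have hc0 : c ≠ 0 := mul_ne_zero (inv_ne_zero (Units.ne_zero _)) (Units.ne_zero _)
  have hconj : ∀ s, (mon m)⁻¹ * tv hσ.ne s * mon m = tv hij.ne (c * s) := fun s => by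
    refine Units.ext (Matrix.ext fun r q => ?_)
    rw [conj_mon_val, tv_val, tv_val]
    rcases eq_or_ne r q with rfl | hrq
    · rw [Matrix.one_apply_eq, Matrix.one_apply_eq, if_neg, if_neg, add_zero, mul_one,
        inv_mul_cancel₀ (Units.ne_zero _)]
      · exact fun e => hij.ne (e.1.trans e.2.symm)
      · exact fun e => hσ.ne (e.1.trans e.2.symm)
    · rw [Matrix.one_apply_ne hrq, Matrix.one_apply_ne fun e => hrq (m.1.injective e), zero_add, zero_add]
      by_cases e : i = r ∧ j = q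
      · obtain ⟨rfl, rfl⟩ := e
        rw [if_pos ⟨rfl, rfl⟩, if_pos ⟨rfl, rfl⟩, hc]
        ring
      · rw [if_neg e, if_neg fun e' => e ⟨m.1.injective e'.1, m.1.injective e'.2⟩, mul_zero, zero_mul]
  have mk : ∀ s, psi0 F (if (m.1 j : ℕ) = m.1 i + 1 then s else 0) ≠
      psi0 F (if (j : ℕ) = i + 1 then c * s else 0) →
      ∃ g : GL (Fin n) F, g ∈ uni n ∧ (mon m)⁻¹ * g * mon m ∈ uni n ∧
      psi0 F (superSum 0 g) ≠ psi0 F (superSum 0 ((mon m)⁻¹ * g * mon m)) := by
    intro s hs
    refine ⟨tv hσ.ne s, tv_mem hσ s, ?_, ?_⟩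
    · rw [hconj]; exact tv_mem hij _
    · rw [hconj, superSum_tv hσ, superSum_tv hij]; exact hs
  by_cases h1 : (j : ℕ) = i + 1
  · by_cases h2 : (m.1 j : ℕ) = m.1 i + 1
    · have hne : m.2 i ≠ m.2 j := fun e => hfail ⟨iff_of_true h2 h1, fun _ => e⟩
      have h3 : (1 : F) - c ≠ 0 := by
        intro e
        apply hne
        rw [sub_eq_zero, hc] at e
        exact Units.ext ((inv_mul_eq_one₀ (Units.ne_zero _)).mp e.symm)
      refine mk (w / (1 - c)) ?_
      rw [if_pos h2, if_pos h1]
      intro e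
      apply hw
      have e2 : w + c * (w / (1 - c)) = w / (1 - c) := by field_simp; ring
      rw [show psi0 F (w / (1 - c)) = psi0 F w * psi0 F (c * (w / (1 - c))) by
        rw [← AddChar.map_add_eq_mul, e2]] at e
      have hnz : psi0 F (c * (w / (1 - c))) ≠ 0 := by
        intro h0
        have h := AddChar.map_add_eq_mul (psi0 F) (c * (w / (1 - c))) (-(c * (w / (1 - c))))
        rw [add_neg_cancel, AddChar.map_zero_eq_one, h0, zero_mul] at h
        exact one_ne_zero h
      exact (mul_eq_right₀ hnz).mp e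
    · refine mk (w / c) ?_
      rw [if_neg h2, if_pos h1, AddChar.map_zero_eq_one, mul_div_cancel₀ _ hc0]
      exact hw.symm
  · by_cases h2 : (m.1 j : ℕ) = m.1 i + 1
    · refine mk w ?_
      rw [if_pos h2, if_neg h1, AddChar.map_zero_eq_one]
      exact hw
    · exact absurd ⟨iff_of_false h2 h1, fun h => absurd h h1⟩ hfail

theorem mon_unique {m m' : Equiv.Perm (Fin n) × (Fin n → Fˣ)} {a b : GL (Fin n) F} (ha : a ∈ uni n)
    (hb : b ∈ uni n) (h : mon m' = a * mon m * b) : m' = m := by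
  have h2 : a⁻¹ * mon m' = mon m * b := by rw [h]; group
  have key : ∀ i, (m.2 i : F) =
      (a⁻¹ : GL (Fin n) F).val (m.1 i) (m'.1 i) * m'.2 i := by
    intro i
    have h3 := Matrix.ext_iff.mpr (congrArg Units.val h2) (m.1 i) i
    rw [Units.val_mul, Units.val_mul, Matrix.mul_apply, Matrix.mul_apply, Finset.sum_eq_single (m'.1 i),
      Finset.sum_eq_single i] at h3
    · rw [mon_val, if_pos rfl, mon_val, if_pos rfl, hb i i (Or.inl le_rfl), Matrix.one_apply_eq,
        mul_one] at h3
      exact h3.symm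
    · intro l _ hl
      rw [mon_val, if_neg (fun e => hl (m.1.injective e).symm), zero_mul]
    · simp
    · intro l _ hl
      rw [mon_val, if_neg hl, mul_zero]
    · simp
  have hle : ∀ i, m.1 i ≤ m'.1 i := fun i => by
    by_contra hlt
    have hlt' := not_le.mp hlt
    refine Units.ne_zero (m.2 i) ?_
    rw [key i, (uni n).inv_mem ha _ _ (Or.inl hlt'.le), Matrix.one_apply_ne hlt'.ne', zero_mul]
  have hσ : m.1 = m'.1 := Datum.eq_of_forall_le hle
  refine Prod.ext hσ.symm (funext fun i => Units.ext ?_)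
  rw [key i, ← hσ, (uni n).inv_mem ha _ _ (Or.inl le_rfl), Matrix.one_apply_eq, one_mul]

theorem exists_mon (y : GL (Fin n) F) : ∃ (m : Equiv.Perm (Fin n) × (Fin n → Fˣ)) (a b : GL (Fin n) F),
    a ∈ uni n ∧ b ∈ uni n ∧ y = a * mon m * b := by
  obtain ⟨σ, p, q, hp, hq, rfl⟩ := GLUnipotent.exists_bruhat y
  have hd : ∀ (g : GL (Fin n) F), g.val.BlockTriangular id → ∀ i, g.val i i ≠ 0 := by
    intro g hg i
    have := ((Matrix.isUnit_iff_isUnit_det _).mp g.isUnit).ne_zero
    rw [Matrix.det_of_isUpperTriangular hg] at this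
    exact Finset.prod_ne_zero_iff.mp this i (Finset.mem_univ i)
  let dp : Fin n → Fˣ := fun i => Units.mk0 _ (hd p hp i)
  let dq : Fin n → Fˣ := fun i => Units.mk0 _ (hd q hq i)
  refine ⟨(σ, fun j => dp (σ j) * dq j), p * (dgl dp)⁻¹, (dgl dq)⁻¹ * q, ?_, ?_, ?_⟩
  · intro i j hij
    have hle : j ≤ i := hij.elim id fun e => absurd e (Nat.not_lt_zero _)
    rw [Units.val_mul]
    show (p.val * Matrix.diagonal fun i => (((dp i)⁻¹ : Fˣ) : F)) i j = _
    rw [Matrix.mul_diagonal]
    rcases eq_or_lt_of_le hle with rfl | hlt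
    · simp [dp, hd p hp j]
    · rw [hp hlt, zero_mul, Matrix.one_apply_ne hlt.ne']
  · intro i j hij
    have hle : j ≤ i := hij.elim id fun e => absurd e (Nat.not_lt_zero _)
    rw [Units.val_mul]
    show ((Matrix.diagonal fun i => (((dq i)⁻¹ : Fˣ) : F)) * q.val) i j = _
    rw [Matrix.diagonal_mul]
    rcases eq_or_lt_of_le hle with rfl | hlt
    · simp [dq, hd q hq j]
    · rw [hq hlt, mul_zero, Matrix.one_apply_ne hlt.ne']
  · have e : mon (σ, fun j => dp (σ j) * dq j) = dgl dp * GLUnipotent.permGL σ * dgl dq := by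
      refine Units.ext (Matrix.ext fun i j => ?_)
      rw [mon_val, Units.val_mul, Units.val_mul]
      show _ = ((Matrix.diagonal fun i => (dp i : F)) * (GLUnipotent.permGL σ : GL (Fin n) F).val *
        Matrix.diagonal fun i => (dq i : F)) i j
      rw [Matrix.mul_diagonal, Matrix.diagonal_mul, GLUnipotent.permGL_apply]
      split_ifs with h <;> simp [h]
    rw [e]
    group

theorem inner_gg : classInner (gg F n) (gg F n) =
    (Nat.card {m : Equiv.Perm (Fin n) × (Fin n → Fˣ) // Supp m} : ℂ) := by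
  have hval : ∀ m : Equiv.Perm (Fin n) × (Fin n → Fˣ),
      cellSum (uni n) (uni n) (psiFun n) (psiFun n) (mon m) = if Supp m then
        (Nat.card {p : uni (F := F) n // (mon m)⁻¹ * (p : GL (Fin n) F) * mon m ∈ uni n} : ℂ) else 0 := by
    intro m
    split_ifs with hm
    · have hnorm : ∀ t : F, psi0 F t * conj (psi0 F t) = 1 := fun t => by
        rw [← AddChar.map_neg_eq_conj, ← AddChar.map_add_eq_mul, add_neg_cancel, AddChar.map_zero_eq_one]
      have hterm : ∀ p : uni (F := F) n,
          psiFun n p * conj (extendByZero (uni n) (psiFun n) ((mon m)⁻¹ * (p : GL (Fin n) F) * mon m)) =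
            if (mon m)⁻¹ * (p : GL (Fin n) F) * mon m ∈ uni n then (1 : ℂ) else 0 := ?_
      · rw [cellSum, Finset.sum_congr rfl fun p _ => hterm p, Finset.sum_boole, Nat.card_eq_fintype_card,
          Fintype.card_subtype]
      intro p
      by_cases hp : (mon m)⁻¹ * (p : GL (Fin n) F) * mon m ∈ uni n
      · rw [CT.extendByZero_mem _ _ hp, if_pos hp]
        simp only [psiFun, psi_eq_of_supp hm p.2 hp]
        exact hnorm _
      · rw [CT.extendByZero_not_mem _ _ hp, if_neg hp, map_zero, mul_zero]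
    · obtain ⟨g, hg, hg', hne⟩ := exists_witness hm
      set x := mon m
      have hshift : psi0 F (superSum 0 g) * conj (psi0 F (superSum 0 (x⁻¹ * g * x))) *
          cellSum (uni n) (uni n) (psiFun n) (psiFun n) x = cellSum (uni n) (uni n) (psiFun n) (psiFun n) x := by
        rw [cellSum, Finset.mul_sum]
        refine Fintype.sum_equiv (Equiv.mulRight ⟨g, hg⟩) _ _ fun p => ?_
        rw [Equiv.coe_mulRight, psiFun_mul, Subgroup.coe_mul,
          show x⁻¹ * ((p : GL (Fin n) F) * g) * x = x⁻¹ * (p : GL (Fin n) F) * x * (x⁻¹ * g * x) by group]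
        by_cases hp : x⁻¹ * (p : GL (Fin n) F) * x ∈ uni n
        · rw [CT.extendByZero_mem _ _ hp, CT.extendByZero_mem _ _ (mul_mem hp hg')]
          rw [show (⟨_, mul_mem hp hg'⟩ : uni (F := F) n) = ⟨_, hp⟩ * ⟨_, hg'⟩ from rfl, psiFun_mul,
            map_mul]
          simp only [psiFun]
          ring
        · rw [CT.extendByZero_not_mem _ _ hp, CT.extendByZero_not_mem]
          · simp
          · exact fun h => hp ((Subgroup.mul_mem_cancel_right _ hg').mp h)
      by_contra hne'
      apply hne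
      have h1 := mul_right_cancel₀ hne' (hshift.trans (one_mul _).symm)
      have h2 : conj (psi0 F (superSum 0 (x⁻¹ * g * x))) * psi0 F (superSum 0 (x⁻¹ * g * x)) = 1 := by
        rw [← AddChar.map_neg_eq_conj, ← AddChar.map_add_eq_mul, neg_add_cancel, AddChar.map_zero_eq_one]
      calc psi0 F (superSum 0 g) = psi0 F (superSum 0 g) *
          (conj (psi0 F (superSum 0 (x⁻¹ * g * x))) * psi0 F (superSum 0 (x⁻¹ * g * x))) := by rw [h2, mul_one]
        _ = psi0 F (superSum 0 (x⁻¹ * g * x)) := by rw [← mul_assoc, h1, one_mul]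
  rw [gg, classInner_ind_eq (uni n) (uni n) (psiFun n) (psiFun n) (isClassFunction_psiFun n)
    (isClassFunction_psiFun n)
    (fun m : {m : Equiv.Perm (Fin n) × (Fin n → Fˣ) // Supp m} => mon m.1) (fun _ => 1) ?_ ?_ ?_]
  · simp [Nat.card_eq_fintype_card]
  · intro m
    rw [hval, if_pos m.2, mul_one]
  · rintro i j ⟨a, b, e⟩
    exact (Subtype.ext (mon_unique a.2 b.2 e)).symm
  · intro y hy
    obtain ⟨m, a, b, ha, hb, rfl⟩ := exists_mon y
    rw [show a * mon m * b = ((⟨a, ha⟩ : uni n) : GL (Fin n) F) * mon m * ((⟨b, hb⟩ : uni n) : GL (Fin n) F) from rfl,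
      cellSum_mul _ _ _ _ (isClassFunction_psiFun n) (isClassFunction_psiFun n), hval] at hy
    exact ⟨⟨m, (ite_ne_right_iff.mp hy).1⟩, ⟨a, ha⟩, ⟨b, hb⟩, rfl⟩

section Count

theorem succAbove_val {N : ℕ} (a : Fin (N + 1)) (x : Fin N) :
    ((a.succAbove x : Fin (N + 1)) : ℕ) = if (x : ℕ) < a then (x : ℕ) else x + 1 := by
  rcases lt_or_ge (x : ℕ) (a : ℕ) with h | h
  · rw [if_pos h, Fin.succAbove_of_castSucc_lt a x (Fin.lt_def.mpr (by simpa using h))]
    simp
  · rw [if_neg (not_lt.mpr h), Fin.succAbove_of_le_castSucc a x (Fin.le_def.mpr (by simpa using h))]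
    simp

/-- Prepend a value to a permutation. -/
noncomputable def pre {N : ℕ} (a : Fin (N + 2)) (σ : Equiv.Perm (Fin (N + 1))) : Equiv.Perm (Fin (N + 2)) :=
  Equiv.ofBijective (Fin.cons a fun i => a.succAbove (σ i)) (Finite.injective_iff_bijective.mp (by
    refine Fin.cons_injective_iff.mpr ⟨?_, (Fin.succAbove_right_injective).comp σ.injective⟩
    rintro ⟨i, hi⟩
    exact Fin.succAbove_ne a _ hi))

theorem pre_zero {N : ℕ} (a : Fin (N + 2)) (σ : Equiv.Perm (Fin (N + 1))) : pre a σ 0 = a := by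
  simp [pre]

theorem pre_succ {N : ℕ} (a : Fin (N + 2)) (σ : Equiv.Perm (Fin (N + 1))) (i : Fin (N + 1)) :
    pre a σ i.succ = a.succAbove (σ i) := by
  simp [pre]

/-- The extension step of the recursion. -/
noncomputable def ext {N : ℕ} (x : (Equiv.Perm (Fin (N + 1)) × (Fin (N + 1) → Fˣ)) × Option Fˣ) :
    Equiv.Perm (Fin (N + 2)) × (Fin (N + 2) → Fˣ) :=
  match x.2 with
  | none => (pre (x.1.1 0).castSucc x.1.1, Fin.cons (x.1.2 0) x.1.2)
  | some c => (pre (Fin.last _) x.1.1, Fin.cons c x.1.2)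

theorem supp_ext {N : ℕ} (m : Equiv.Perm (Fin (N + 1)) × (Fin (N + 1) → Fˣ)) (o : Option Fˣ)
    (hm : Supp m) : Supp (ext (m, o)) := by
  intro i j hij hσ
  obtain ⟨σ, t⟩ := m
  obtain ⟨j, rfl⟩ := Fin.exists_succ_eq.mpr (show j ≠ 0 from fun e => by rw [e] at hij; exact absurd hij (Nat.not_lt_zero _))
  rcases o with _ | c
  · simp only [ext] at hσ ⊢
    rcases Fin.eq_zero_or_eq_succ i with rfl | ⟨i, rfl⟩
    · simp only [pre_zero, pre_succ, Fin.lt_def, succAbove_val, Fin.val_castSucc, Fin.val_zero,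
        Fin.val_succ, Fin.cons_zero, Fin.cons_succ] at hσ ⊢
      have hge : ¬((σ j : ℕ) < (σ 0 : ℕ)) := by
        intro h; rw [if_pos h] at hσ; omega
      rw [if_neg hge] at hσ ⊢
      constructor
      · constructor
        · intro e
          have : j = 0 := σ.injective (Fin.ext (by omega))
          subst this
          rfl
        · intro e
          have : j = 0 := Fin.ext (by rw [Fin.val_zero]; omega)
          subst this
          rfl
      · intro e
        have : j = 0 := Fin.ext (by rw [Fin.val_zero]; omega)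
        subst this
        rfl
    · simp only [pre_succ, Fin.lt_def, succAbove_val, Fin.val_castSucc, Fin.val_succ, Fin.cons_succ] at hσ hij ⊢
      have hij' : i < j := Fin.lt_def.mpr (by omega)
      have hσ' : σ i < σ j := Fin.lt_def.mpr (by
        by_contra hh
        split_ifs at hσ <;> omega)
      obtain ⟨h1, h2⟩ := hm i j hij' hσ'
      dsimp only at h1
      have hlt := Fin.lt_def.mp hσ'
      refine ⟨?_, fun e => h2 (by omega)⟩
      constructor
      · intro e
        have : (σ j : ℕ) = σ i + 1 := by split_ifs at e <;> omega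
        have := h1.mp this
        omega
      · intro e
        have h3 := h1.mpr (by omega : (j : ℕ) = i + 1)
        by_cases hlo : (σ j : ℕ) = σ 0
        · have : j = 0 := σ.injective (Fin.ext hlo)
          subst this
          exact absurd hij' (Fin.not_lt_zero i)
        · split_ifs <;> omega
  · simp only [ext] at hσ ⊢
    rcases Fin.eq_zero_or_eq_succ i with rfl | ⟨i, rfl⟩
    · exact absurd hσ (by rw [pre_zero]; exact not_lt.mpr (Fin.le_last _))
    · simp only [pre_succ, Fin.succAbove_last, Fin.lt_def, Fin.val_castSucc, Fin.val_succ, Fin.cons_succ] at hσ hij ⊢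
      obtain ⟨h1, h2⟩ := hm i j (Fin.lt_def.mpr (by omega)) (Fin.lt_def.mpr hσ)
      refine ⟨h1.trans (by omega), fun e => h2 (by omega)⟩

theorem ext_injective {N : ℕ} : Function.Injective (ext (F := F) (N := N)) := by
  rintro ⟨⟨σ, t⟩, o⟩ ⟨⟨σ', t'⟩, o'⟩ h
  have key : ∀ (a a' : Fin (N + 2)), pre a σ = pre a' σ' → a = a' ∧ σ = σ' := by
    intro a a' e
    have h0 : a = a' := by simpa [pre_zero] using DFunLike.congr_fun e 0
    subst h0
    exact ⟨rfl, Equiv.ext fun i => Fin.succAbove_right_injective (p := a) (by simpa [pre_succ] using DFunLike.congr_fun e i.succ)⟩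
  rcases o with _ | c <;> rcases o' with _ | c' <;> simp only [ext, Prod.mk.injEq] at h
  · obtain ⟨-, e⟩ := key _ _ h.1
    have e2 := (Fin.cons_inj.mp h.2).2
    rw [e, e2]
  · exact absurd (key _ _ h.1).1 (Fin.castSucc_ne_last _)
  · exact absurd (key _ _ h.1).1.symm (Fin.castSucc_ne_last _)
  · obtain ⟨-, e⟩ := key _ _ h.1
    obtain ⟨e1, e2⟩ := Fin.cons_inj.mp h.2
    rw [e, e1, e2]

theorem ext_surjective {N : ℕ} {m : Equiv.Perm (Fin (N + 2)) × (Fin (N + 2) → Fˣ)} (hm : Supp m) :
    ∃ (m' : Equiv.Perm (Fin (N + 1)) × (Fin (N + 1) → Fˣ)) (o : Option Fˣ),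
      Supp m' ∧ ext (m', o) = m := by
  obtain ⟨τ, t⟩ := m
  set a := τ 0 with ha
  have hex : ∀ i : Fin (N + 1), ∃ x, a.succAbove x = τ i.succ := fun i =>
    Fin.exists_succAbove_eq (fun e => Fin.succ_ne_zero i (τ.injective e))
  choose g hg using hex
  let σ : Equiv.Perm (Fin (N + 1)) := Equiv.ofBijective g (Finite.injective_iff_bijective.mp
    fun i j e => Fin.succ_injective _ (τ.injective (by rw [← hg, ← hg, e])))
  have hτ : τ = pre a σ := by
    ext i
    rcases Fin.eq_zero_or_eq_succ i with rfl | ⟨i, rfl⟩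
    · rw [pre_zero]
    · rw [pre_succ]; exact congrArg Fin.val (hg i).symm
  have hσ : Supp (σ, fun i => t i.succ) := by
    intro i j hij hs
    have hs' : τ i.succ < τ j.succ := by
      rw [← hg, ← hg]
      exact Fin.strictMono_succAbove a hs
    obtain ⟨h1, h2⟩ := hm i.succ j.succ (Fin.succ_lt_succ_iff.mpr hij) hs'
    simp only [Fin.val_succ] at h1 h2
    refine ⟨?_, fun e => h2 (show (j : ℕ) + 1 = i + 1 + 1 by omega)⟩
    have vi : (τ i.succ : ℕ) = if (σ i : ℕ) < a then (σ i : ℕ) else σ i + 1 := by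
      rw [← hg, succAbove_val]; rfl
    have vj : (τ j.succ : ℕ) = if (σ j : ℕ) < a then (σ j : ℕ) else σ j + 1 := by
      rw [← hg, succAbove_val]; rfl
    have hlt : (σ i : ℕ) < σ j := hs
    constructor
    · intro e
      change (σ j : ℕ) = σ i + 1 at e
      by_cases hstr : (σ i : ℕ) < a ∧ ¬((σ j : ℕ) < a)
      · exfalso
        rw [if_neg hstr.2] at vj
        have h0 := hm 0 j.succ (Fin.succ_pos j) (Fin.lt_def.mpr (by rw [vj, ← ha]; omega))
        have hj0 := h0.1.mp (by simp only; rw [vj, ← ha]; omega)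
        simp only [Fin.val_succ, Fin.val_zero] at hj0
        have := Fin.lt_def.mp hij
        omega
      · have : (τ j.succ : ℕ) = τ i.succ + 1 := by
          rw [vi, vj]
          split_ifs <;> omega
        have := h1.mp this
        omega
    · intro e
      show (σ j : ℕ) = σ i + 1
      have := h1.mpr (by omega)
      rw [vi, vj] at this
      split_ifs at this <;> omega
  by_cases hlast : a = Fin.last _
  · refine ⟨(σ, fun i => t i.succ), some (t 0), hσ, ?_⟩
    simp only [ext]
    refine Prod.ext (by simp only; rw [hτ, hlast]) ?_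
    exact Fin.cons_self_tail t
  · have halt : (a : ℕ) + 1 < N + 2 := by
      have := a.2
      by_contra hh
      exact hlast (Fin.ext (by simp; omega))
    obtain ⟨j, hj⟩ := τ.surjective ⟨(a : ℕ) + 1, halt⟩
    have hj0 : (0 : Fin (N + 2)) < j := Fin.pos_iff_ne_zero.mpr fun e => by
      rw [e, ← ha] at hj
      exact absurd (congrArg Fin.val hj) (by simp)
    have hjv : (τ j : ℕ) = a + 1 := congrArg Fin.val hj
    obtain ⟨h1, h2⟩ := hm 0 j hj0 (Fin.lt_def.mpr (by simp only; rw [← ha]; omega))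
    have hj1 : (j : ℕ) = 1 := by simpa using h1.mp (by simp only; rw [hjv, ← ha])
    have hje : j = (0 : Fin (N + 1)).succ := Fin.ext (by simp [hj1])
    have hval : (τ (0 : Fin (N + 1)).succ : ℕ) = a + 1 := by rw [← hje]; exact hjv
    rw [← hg, succAbove_val] at hval
    have ha' : a = (σ 0).castSucc := Fin.ext (by
      show (a : ℕ) = (g 0 : ℕ)
      split_ifs at hval <;> omega)
    refine ⟨(σ, fun i => t i.succ), none, hσ, ?_⟩
    simp only [ext]
    refine Prod.ext (by simp only; rw [hτ, ← ha']) ?_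
    have ht : t 0 = t (0 : Fin (N + 1)).succ := by
      have := h2 (by simp [hj1])
      rw [hje] at this
      exact this
    simp only
    rw [← ht]
    exact Fin.cons_self_tail t

theorem card_supp : ∀ N : ℕ, Nat.card {m : Equiv.Perm (Fin (N + 1)) × (Fin (N + 1) → Fˣ) // Supp m} =
    (Fintype.card F - 1) * Fintype.card F ^ N := by
  intro N
  induction N with
  | zero =>
    have hall : ∀ m : Equiv.Perm (Fin (0 + 1)) × (Fin (0 + 1) → Fˣ), Supp m := fun m i j hij =>
      absurd hij (by simp [Subsingleton.elim (α := Fin 1) i j])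
    rw [Nat.card_congr (Equiv.subtypeUnivEquiv hall), Nat.card_eq_fintype_card, Fintype.card_prod,
      Fintype.card_fun, Fintype.card_units, Fintype.card_perm]
    simp
  | succ N ih =>
    let Φ : {m : Equiv.Perm (Fin (N + 1)) × (Fin (N + 1) → Fˣ) // Supp m} × Option Fˣ →
        {m : Equiv.Perm (Fin (N + 1 + 1)) × (Fin (N + 1 + 1) → Fˣ) // Supp m} :=
      fun x => ⟨ext (x.1.1, x.2), supp_ext x.1.1 x.2 x.1.2⟩
    have hΦ : Function.Bijective Φ := by
      constructor
      · intro x y e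
        have := ext_injective (congrArg Subtype.val e)
        simp only [Prod.mk.injEq] at this
        exact Prod.ext (Subtype.ext this.1) this.2
      · rintro ⟨m, hm⟩
        obtain ⟨m', o, hm', e⟩ := ext_surjective hm
        exact ⟨(⟨m', hm'⟩, o), Subtype.ext e⟩
    rw [← Nat.card_eq_of_bijective Φ hΦ, Nat.card_prod, ih, Nat.card_eq_fintype_card, Fintype.card_option,
      Fintype.card_units, pow_succ, mul_assoc, Nat.sub_add_cancel Fintype.card_pos]

end Count

end Cfsg.Agent.GLCusp
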