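import Cfsg.Agent.Lib.GLCusp.Sums
import Cfsg.Agent.Lib.GLUnipotent.Bruhat

set_option autoImplicit false
set_option linter.unusedSectionVars false

/-!
Parabolic subgroups attached to a labelled block decomposition of the index set.
-/

namespace Cfsg.Agent.GLCusp

open Cfsg Matrix

universe u

variable {F : Type u} [Field F] [Fintype F] [DecidableEq F]

/-- A trivial sum over a subgroup of a character kills every translate. -/
theorem sum_translate_eq_zero {G : Type u} [Group G] [Fintype G] {χ : G → ℂ} (hχ : IsCharacter G χ)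
    (U : Subgroup G) [Fintype U] (h : ∑ u : U, χ u = 0) (g : G) : ∑ u : U, χ (g * u) = 0 := by
  classical
  obtain ⟨m, ρ, rfl⟩ := hχ
  have hc : (Fintype.card U : ℂ) ≠ 0 := Nat.cast_ne_zero.mpr Fintype.card_ne_zero
  let E : Module.End ℂ (Fin m → ℂ) := (Fintype.card U : ℂ)⁻¹ • ∑ u : U, ρ (u : G)
  have hshift : ∀ v : U, ρ (v : G) * (∑ u : U, ρ (u : G)) = ∑ u : U, ρ (u : G) := by
    intro v
    rw [Finset.mul_sum]
    exact Fintype.sum_equiv (Equiv.mulLeft v) _ _ fun u => by simp [map_mul]
  have hE : IsIdempotentElem E := by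
    show E * E = E
    simp only [E, smul_mul_assoc, mul_smul_comm]
    rw [Finset.sum_mul, Finset.sum_congr rfl fun v _ => hshift v, Finset.sum_const, Finset.card_univ,
      ← Nat.cast_smul_eq_nsmul ℂ, smul_smul (_ : ℂ)⁻¹ (Fintype.card U : ℂ), inv_mul_cancel₀ hc,
      one_smul]
  have htr : LinearMap.trace ℂ _ E = 0 := by
    simp only [E, map_smul, map_sum]
    rw [show ∑ u : U, LinearMap.trace ℂ _ (ρ (u : G)) = 0 from h, smul_zero]
  have h0 : E = 0 := by
    rw [((LinearMap.isProj_range_iff_isIdempotentElem E).mpr hE).trace, Nat.cast_eq_zero,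
      Submodule.finrank_eq_zero, LinearMap.range_eq_bot] at htr
    exact htr
  have hsum : ∑ u : U, ρ (u : G) = 0 := (smul_eq_zero.mp h0).resolve_left (inv_ne_zero hc)
  show ∑ u : U, LinearMap.trace ℂ _ (ρ (g * u)) = 0
  simp only [map_mul]
  rw [← map_sum, ← Finset.mul_sum, hsum, mul_zero, map_zero]

section Rad

variable {d : ℕ}

/-- Matrices agreeing with the identity outside `S × Sᶜ`. -/
def rad (S : Finset (Fin d)) : Subgroup (GL (Fin d) F) :=
  mkSub {g | ∀ i j, ¬(i ∈ S ∧ j ∉ S) →
      (g : Matrix (Fin d) (Fin d) F) i j = (1 : Matrix (Fin d) (Fin d) F) i j}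
    (fun i j _ => rfl)
    (fun a b ha hb i j hij => by
      rw [Units.val_mul, Matrix.mul_apply]
      by_cases hi : i ∈ S
      · have hj : j ∈ S := by_contra fun hj => hij ⟨hi, hj⟩
        rw [Finset.sum_eq_single i]
        · rw [ha i i (fun h => h.2 hi), hb i j hij, Matrix.one_apply_eq, one_mul]
        · intro l _ hl
          by_cases hlS : l ∈ S
          · rw [ha i l (fun h => h.2 hlS), Matrix.one_apply_ne (Ne.symm hl), zero_mul]
          · rw [hb l j (fun h => hlS h.1), Matrix.one_apply_ne (fun e : l = j => hlS (e ▸ hj)),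
              mul_zero]
        · simp
      · rw [Finset.sum_eq_single i]
        · rw [ha i i (fun h => hi h.1), hb i j hij, Matrix.one_apply_eq, one_mul]
        · intro l _ hl
          rw [ha i l (fun h => hi h.1), Matrix.one_apply_ne (Ne.symm hl), zero_mul]
        · simp)

theorem mem_rad {S : Finset (Fin d)} {g : GL (Fin d) F} :
    g ∈ rad S ↔ ∀ i j, ¬(i ∈ S ∧ j ∉ S) →
      (g : Matrix (Fin d) (Fin d) F) i j = (1 : Matrix (Fin d) (Fin d) F) i j := Iff.rfl

open Classical in
/-- No radical of a maximal parabolic has invariants. -/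
def IsCusp (χ : GL (Fin d) F → ℂ) : Prop :=
  ∀ S : Finset (Fin d), S.Nonempty → S ≠ Finset.univ → ∑ u : rad (F := F) S, χ u = 0

end Rad

section Blocks

variable {n k : ℕ} {d : Fin k → ℕ} (E : (Σ a, Fin (d a)) ≃ Fin n)

/-- Coordinates along the block decomposition. -/
def co (g : GL (Fin n) F) : Matrix (Σ a, Fin (d a)) (Σ a, Fin (d a)) F :=
  (g : Matrix (Fin n) (Fin n) F).submatrix E E

theorem co_one : co E (1 : GL (Fin n) F) = 1 := by
  simp [co]

theorem co_mul (g h : GL (Fin n) F) : co E (g * h) = co E g * co E h := by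
  simp only [co, Units.val_mul]
  exact (Matrix.submatrix_mul_equiv _ _ _ E _).symm

theorem co_injective : Function.Injective (co (F := F) E) := fun g h e => by
  refine Units.ext (Matrix.ext fun i j => ?_)
  simpa [co] using congrFun₂ e (E.symm i) (E.symm j)

theorem val_eq_co (g : GL (Fin n) F) (i j : Fin n) :
    (g : Matrix (Fin n) (Fin n) F) i j = co E g (E.symm i) (E.symm j) := by simp [co]

/-- The block parabolic subgroup. -/
def parab : Subgroup (GL (Fin n) F) :=
  mkSub {g | ∀ x y, y.1 < x.1 → co E g x y = 0}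
    (fun x y h => by rw [co_one, Matrix.one_apply_ne (fun e => h.ne (congrArg Sigma.fst e).symm)])
    (fun g h hg hh x y hxy => by
      rw [co_mul, Matrix.mul_apply]
      refine Finset.sum_eq_zero fun z _ => ?_
      rcases lt_or_ge z.1 x.1 with hz | hz
      · rw [hg x z hz, zero_mul]
      · rw [hh z y (hxy.trans_le hz), mul_zero])

theorem mem_parab {g : GL (Fin n) F} : g ∈ parab E ↔ ∀ x y, y.1 < x.1 → co E g x y = 0 := Iff.rfl

/-- A diagonal block as a monoid homomorphism into matrices. -/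
def blockMatHom (a : Fin k) : parab (F := F) E →* Matrix (Fin (d a)) (Fin (d a)) F where
  toFun p := Matrix.of fun r s => co E (p : GL (Fin n) F) ⟨a, r⟩ ⟨a, s⟩
  map_one' := by
    ext r s
    rcases eq_or_ne r s with rfl | h
    · simp [co_one]
    · simp [co_one, Matrix.one_apply_ne h, h]
  map_mul' p q := by
    ext r s
    simp only [Matrix.mul_apply, Matrix.of_apply, Subgroup.coe_mul, co_mul]
    rw [Fintype.sum_sigma,
      Finset.sum_eq_single a]
    · intro b _ hb
      refine Finset.sum_eq_zero fun t _ => ?_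
      rcases lt_or_gt_of_ne hb with hlt | hlt
      · rw [p.2 ⟨a, r⟩ ⟨b, t⟩ hlt, zero_mul]
      · rw [q.2 ⟨b, t⟩ ⟨a, s⟩ hlt, mul_zero]
    · simp

/-- A diagonal block. -/
def blockHom (a : Fin k) : parab (F := F) E →* GL (Fin (d a)) F := (blockMatHom E a).toHomUnits

theorem blockHom_val (a : Fin k) (p : parab (F := F) E) (r s : Fin (d a)) :
    (blockHom E a p : Matrix (Fin (d a)) (Fin (d a)) F) r s =
      co E (p : GL (Fin n) F) ⟨a, r⟩ ⟨a, s⟩ := rfl

/-- Block diagonal matrices. -/
def blkDiag : (∀ a, GL (Fin (d a)) F) →* GL (Fin n) F :=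
  (Units.map (((Matrix.reindexAlgEquiv F F E).toRingEquiv.toRingHom.comp
      (Matrix.blockDiagonal'RingHom (fun a => Fin (d a)) F)).toMonoidHom)).comp
    (MulEquiv.piUnits (M := fun a => Matrix (Fin (d a)) (Fin (d a)) F)).symm.toMonoidHom

theorem co_blkDiag (l : ∀ a, GL (Fin (d a)) F) :
    co E (blkDiag E l) = Matrix.blockDiagonal' fun a => (l a : Matrix (Fin (d a)) (Fin (d a)) F) := by
  ext x y
  simp [co, blkDiag, MulEquiv.piUnits]

theorem blkDiag_mem (l : ∀ a, GL (Fin (d a)) F) : blkDiag E l ∈ parab E := by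
  intro x y h
  rw [co_blkDiag, Matrix.blockDiagonal'_apply_ne _ _ _ (ne_of_gt h)]

theorem blockHom_blkDiag (l : ∀ a, GL (Fin (d a)) F) (a : Fin k) :
    blockHom E a ⟨blkDiag E l, blkDiag_mem E l⟩ = l a := by
  refine Units.ext (Matrix.ext fun r s => ?_)
  rw [blockHom_val, co_blkDiag, Matrix.blockDiagonal'_apply_eq]

/-- The product of class functions of the blocks. -/
noncomputable def parabFun (χ : ∀ a, GL (Fin (d a)) F → ℂ) : parab (F := F) E → ℂ :=
  fun p => ∏ a, χ a (blockHom E a p)

theorem isCharacter_parabFun {χ : ∀ a, GL (Fin (d a)) F → ℂ} (h : ∀ a, IsCharacter _ (χ a)) :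
    IsCharacter _ (parabFun E χ) := by
  classical
  have key : ∀ s : Finset (Fin k), IsCharacter _ (fun p : parab (F := F) E => ∏ a ∈ s, χ a (blockHom E a p)) := by
    intro s
    induction s using Finset.induction_on with
    | empty =>
      simp only [Finset.prod_empty]
      exact CT.isCharacter_one
    | insert a s ha ih =>
      simp only [Finset.prod_insert ha]
      exact CT.isCharacter_mul (CT.isCharacter_comp (blockHom E a) (h a)) ih
  exact key Finset.univ

theorem isClassFunction_parabFun {χ : ∀ a, GL (Fin (d a)) F → ℂ}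
    (h : ∀ a, IsClassFunction _ (χ a)) : IsClassFunction _ (parabFun E χ) := by
  intro p q
  simp only [parabFun, map_mul, map_inv, h _ _ _]

/-- Parabolic induction. -/
noncomputable def parabInd (χ : ∀ a, GL (Fin (d a)) F → ℂ) : GL (Fin n) F → ℂ :=
  indFun (parab E) (parabFun E χ)

theorem co_permGL (σ : Equiv.Perm (Fin n)) (g : GL (Fin n) F) (i j : Fin n) :
    (((GLUnipotent.permGL σ)⁻¹ * g * GLUnipotent.permGL σ : GL (Fin n) F) :
      Matrix (Fin n) (Fin n) F) i j = (g : Matrix (Fin n) (Fin n) F) (σ i) (σ j) := by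
  rw [← map_inv, Units.val_mul, Units.val_mul, Matrix.mul_apply, Finset.sum_eq_single (σ j)]
  · rw [Matrix.mul_apply, Finset.sum_eq_single (σ i)]
    · rw [GLUnipotent.permGL_apply, GLUnipotent.permGL_apply]
      simp
    · intro l _ hl
      rw [GLUnipotent.permGL_apply, if_neg, zero_mul]
      intro e
      exact hl (by simp [e])
    · simp
  · intro l _ hl
    rw [GLUnipotent.permGL_apply, if_neg hl, mul_zero]
  · simp

theorem co_conj_permGL (σ : Equiv.Perm (Fin n)) (g : GL (Fin n) F) :
    co E ((GLUnipotent.permGL σ)⁻¹ * g * GLUnipotent.permGL σ) = co (E.trans σ) g := by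
  ext x y
  simp only [co, Matrix.submatrix_apply, Equiv.trans_apply]
  exact co_permGL σ g (E x) (E y)

theorem conj_permGL_mem (σ : Equiv.Perm (Fin n)) (g : GL (Fin n) F) :
    (GLUnipotent.permGL σ)⁻¹ * g * GLUnipotent.permGL σ ∈ parab E ↔ g ∈ parab (E.trans σ) := by
  simp only [mem_parab, co_conj_permGL]

theorem blockHom_conj_permGL (σ : Equiv.Perm (Fin n)) (g : GL (Fin n) F)
    (h1 : (GLUnipotent.permGL σ)⁻¹ * g * GLUnipotent.permGL σ ∈ parab E)
    (h2 : g ∈ parab (E.trans σ)) (a : Fin k) :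
    blockHom E a ⟨_, h1⟩ = blockHom (E.trans σ) a ⟨g, h2⟩ :=
  Units.ext (Matrix.ext fun r s => by rw [blockHom_val, blockHom_val, co_conj_permGL])

end Blocks

end Cfsg.Agent.GLCusp
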