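import Mathlib
import Cfsg.Agent.Lib.CT.Induced

set_option autoImplicit false
set_option linter.unusedSectionVars false

/-!
Inner products of two induced functions as sums over double cosets.
-/

namespace Cfsg.Agent.GLCusp

open Cfsg
open scoped ComplexConjugate

universe u

variable {G : Type u} [Group G] [Fintype G]

/-- A finite multiplicatively closed set is a subgroup. -/
def mkSub (carrier : Set G) (h1 : (1 : G) ∈ carrier)
    (hmul : ∀ a b, a ∈ carrier → b ∈ carrier → a * b ∈ carrier) : Subgroup G where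
  carrier := carrier
  one_mem' := h1
  mul_mem' := fun ha hb => hmul _ _ ha hb
  inv_mem' := by
    intro x hx
    rw [inv_eq_of_mul_eq_one_right (show x * x ^ (orderOf x - 1) = 1 by
      rw [← pow_succ', Nat.sub_add_cancel (orderOf_pos x), pow_orderOf_eq_one])]
    induction (orderOf x - 1) with
    | zero => simpa using h1
    | succ m ih => rw [pow_succ]; exact hmul _ _ ih hx

theorem mem_mkSub {carrier : Set G} {h1 : (1 : G) ∈ carrier}
    {hmul : ∀ a b, a ∈ carrier → b ∈ carrier → a * b ∈ carrier} {x : G} :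
    x ∈ mkSub carrier h1 hmul ↔ x ∈ carrier := Iff.rfl

variable (H K : Subgroup G) [Fintype H] [Fintype K] (f : H → ℂ) (h : K → ℂ)

/-- The summand of the double coset formula. -/
noncomputable def cellSum (x : G) : ℂ :=
  ∑ p : H, f p * conj (extendByZero K h (x⁻¹ * (p : G) * x))

theorem classInner_ind :
    classInner (indFun H f) (indFun K h) =
      (Nat.card H : ℂ)⁻¹ * (Nat.card K : ℂ)⁻¹ * ∑ x : G, cellSum H K f h x := by
  rw [CT.frobenius_reciprocity H f (CT.isClassFunction_indFun K h)]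
  simp only [classInner, cellSum]
  rw [Finset.sum_comm, mul_assoc]
  congr 1
  rw [Finset.mul_sum]
  refine Finset.sum_congr rfl fun p _ => ?_
  simp only [indFun, map_mul, map_sum, Finset.mul_sum, map_inv₀, map_natCast]
  refine Finset.sum_congr rfl fun x _ => ?_
  ring

theorem cellSum_mul (hf : IsClassFunction H f) (hh : IsClassFunction K h) (a : H) (b : K) (x : G) :
    cellSum H K f h ((a : G) * x * b) = cellSum H K f h x := by
  unfold cellSum
  refine Fintype.sum_equiv (MulAut.conj a⁻¹).toEquiv _ _ fun p => ?_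
  have e1 : f ((MulAut.conj a⁻¹).toEquiv p) = f p := by
    simpa using hf p a⁻¹
  rw [e1]
  congr 2
  have e2 : ((a : G) * x * b)⁻¹ * (p : G) * ((a : G) * x * b) =
      (b : G)⁻¹ * (x⁻¹ * (((MulAut.conj a⁻¹).toEquiv p : H) : G) * x) * b := by
    simp [mul_assoc]
  rw [e2]
  set y := x⁻¹ * (((MulAut.conj a⁻¹).toEquiv p : H) : G) * x with hy
  by_cases hm : y ∈ K
  · have hm' : (b : G)⁻¹ * y * b ∈ K := K.mul_mem (K.mul_mem (K.inv_mem b.2) hm) b.2
    rw [CT.extendByZero_mem K h hm, CT.extendByZero_mem K h hm']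
    have := hh ⟨y, hm⟩ b⁻¹
    simp only [inv_inv] at this
    rw [← this]
    rfl
  · rw [CT.extendByZero_not_mem K h hm, CT.extendByZero_not_mem K h]
    intro hm'
    apply hm
    have := K.mul_mem (K.mul_mem b.2 hm') (K.inv_mem b.2)
    simpa [mul_assoc] using this

/-- The double coset as a set. -/
def cell (x : G) : Set G := {y | ∃ (a : H) (b : K), y = (a : G) * x * b}

theorem sum_cell (x : G) (Φ : G → ℂ) [DecidablePred (· ∈ cell H K x)] :
    (Nat.card {p : H // x⁻¹ * (p : G) * x ∈ K} : ℂ) *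
      ∑ y ∈ Finset.univ.filter (· ∈ cell H K x), Φ y = ∑ ab : H × K, Φ ((ab.1 : G) * x * ab.2) := by
  classical
  rw [← Finset.sum_fiberwise_of_maps_to (t := Finset.univ.filter (· ∈ cell H K x))
    (g := fun ab : H × K => (ab.1 : G) * x * ab.2)
    (fun ab _ => Finset.mem_filter.mpr ⟨Finset.mem_univ _, ab.1, ab.2, rfl⟩), Finset.mul_sum]
  refine Finset.sum_congr rfl fun y hy => ?_
  obtain ⟨a, b, rfl⟩ := (Finset.mem_filter.mp hy).2
  rw [Finset.sum_congr rfl (fun ab hab => congrArg Φ (Finset.mem_filter.mp hab).2), Finset.sum_const,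
    nsmul_eq_mul]
  congr 2
  rw [Nat.card_eq_fintype_card, ← Fintype.card_subtype]
  refine Fintype.card_congr
    { toFun := fun p => ⟨(a * p.1, ⟨x⁻¹ * (p.1 : G)⁻¹ * x, ?_⟩ * b), ?_⟩
      invFun := fun ab => ⟨a⁻¹ * ab.1.1, ?_⟩
      left_inv := fun p => Subtype.ext (by simp)
      right_inv := fun ab => ?_ }
  · simp [mul_assoc]
  · have := K.inv_mem p.2
    simp only [mul_inv_rev, inv_inv, mul_assoc] at this ⊢
    exact this
  · have e := ab.2
    have : x⁻¹ * ((a⁻¹ * ab.1.1 : H) : G) * x = (b : G) * (ab.1.2 : G)⁻¹ := by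
      rw [eq_mul_inv_iff_mul_eq, Subgroup.coe_mul, Subgroup.coe_inv,
        show x⁻¹ * ((a : G)⁻¹ * (ab.1.1 : G)) * x * (ab.1.2 : G) =
          x⁻¹ * (a : G)⁻¹ * ((ab.1.1 : G) * x * ab.1.2) by group, e]
      group
    rw [this]
    exact K.mul_mem b.2 (K.inv_mem ab.1.2.2)
  · obtain ⟨⟨a', b'⟩, e⟩ := ab
    refine Subtype.ext (Prod.ext (by simp) (Subtype.ext ?_))
    show x⁻¹ * ((a⁻¹ * a' : H) : G)⁻¹ * x * b = b'
    have e' : (a' : G) * x * b' = (a : G) * x * b := e
    rw [show x⁻¹ * ((a⁻¹ * a' : H) : G)⁻¹ * x * (b : G) =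
      x⁻¹ * (a' : G)⁻¹ * ((a : G) * x * b) by rw [Subgroup.coe_mul, Subgroup.coe_inv]; group, ← e']
    group

/-- Evaluation of the inner product from representatives of the supporting double cosets. -/
theorem classInner_ind_eq {ι : Type*} [Fintype ι] (hf : IsClassFunction H f)
    (hh : IsClassFunction K h) (x : ι → G) (v : ι → ℂ)
    (hval : ∀ j, cellSum H K f h (x j) =
      (Nat.card {p : H // (x j)⁻¹ * (p : G) * x j ∈ K} : ℂ) * v j)
    (hdisj : ∀ i j, x j ∈ cell H K (x i) → i = j)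
    (hzero : ∀ y, cellSum H K f h y ≠ 0 → ∃ j, y ∈ cell H K (x j)) :
    classInner (indFun H f) (indFun K h) = ∑ j, v j := by
  classical
  let C : ι → Finset G := fun j => Finset.univ.filter (· ∈ cell H K (x j))
  have hC : (Set.univ : Set ι).PairwiseDisjoint C := by
    intro i _ j _ hij
    rw [Function.onFun, Finset.disjoint_left]
    intro y hi hj
    obtain ⟨a, b, rfl⟩ := (Finset.mem_filter.mp hi).2
    obtain ⟨a', b', e⟩ := (Finset.mem_filter.mp hj).2
    refine hij (hdisj i j ⟨a'⁻¹ * a, b * b'⁻¹, ?_⟩)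
    rw [Subgroup.coe_mul, Subgroup.coe_mul, Subgroup.coe_inv, Subgroup.coe_inv,
      show (a' : G)⁻¹ * a * x i * ((b : G) * (b' : G)⁻¹) =
        (a' : G)⁻¹ * ((a : G) * x i * b) * (b' : G)⁻¹ by group, e]
    group
  have hS : ∑ y, cellSum H K f h y = ∑ j, ∑ y ∈ C j, cellSum H K f h y := by
    rw [← Finset.sum_disjiUnion Finset.univ C (fun i _ j _ hij => hC trivial trivial hij)]
    symm
    refine Finset.sum_subset (Finset.subset_univ _) fun y _ hy => ?_
    by_contra hne
    obtain ⟨j, hj⟩ := hzero y hne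
    exact hy (Finset.mem_disjiUnion.mpr ⟨j, Finset.mem_univ _, by simp [C, hj]⟩)
  rw [classInner_ind, hS, Finset.mul_sum]
  refine Finset.sum_congr rfl fun j _ => ?_
  have key := sum_cell H K (x j) (cellSum H K f h)
  rw [Finset.sum_congr rfl (fun (ab : H × K) _ => cellSum_mul H K f h hf hh ab.1 ab.2 (x j)),
    Finset.sum_const,
    Finset.card_univ, nsmul_eq_mul, Fintype.card_prod, hval] at key
  have hN : (Nat.card {p : H // (x j)⁻¹ * (p : G) * x j ∈ K} : ℂ) ≠ 0 := by
    haveI : Nonempty {p : H // (x j)⁻¹ * (p : G) * x j ∈ K} := ⟨⟨1, by simp⟩⟩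
    exact Nat.cast_ne_zero.mpr Nat.card_pos.ne'
  have key2 : ∑ y ∈ C j, cellSum H K f h y = (Fintype.card H : ℂ) * Fintype.card K * v j := by
    refine mul_left_cancel₀ hN ?_
    rw [key]
    push_cast
    ring
  rw [key2, Nat.card_eq_fintype_card, Nat.card_eq_fintype_card]
  have h1 : (Fintype.card H : ℂ) ≠ 0 := Nat.cast_ne_zero.mpr Fintype.card_ne_zero
  have h2 : (Fintype.card K : ℂ) ≠ 0 := Nat.cast_ne_zero.mpr Fintype.card_ne_zero
  field_simp

end Cfsg.Agent.GLCusp
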