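import Cfsg.Agent.Lib.GLCusp.Comm

set_option autoImplicit false
set_option linter.unusedSectionVars false

/-!
Every irreducible character occurs in the induction of a cuspidal datum.
-/

namespace Cfsg.Agent.GLCusp

open Cfsg Matrix
open scoped ComplexConjugate Classical

universe u

variable {F : Type u} [Field F] [Fintype F] [DecidableEq F] {n : ℕ}

theorem one_apply_inj {α β : Type*} [DecidableEq α] [DecidableEq β] (f : α → β)
    (hf : Function.Injective f) (x y : α) : (1 : Matrix β β F) (f x) (f y) = (1 : Matrix α α F) x y := by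
  rcases eq_or_ne x y with rfl | h
  · simp
  · rw [Matrix.one_apply_ne h, Matrix.one_apply_ne (hf.ne h)]

theorem isCusp_of_initial {d : ℕ} {χ : GL (Fin d) F → ℂ} (hχ : IsClassFunction _ χ)
    (h : ∀ m : ℕ, 0 < m → m < d →
      ∑ u : rad (F := F) (Finset.univ.filter fun i : Fin d => (i : ℕ) < m), χ u = 0) : IsCusp χ := by
  intro S hS hS'
  have hcard : S.card < d := by
    have := Finset.card_lt_card (Finset.ssubset_univ_iff.mpr hS')
    simpa using this
  set T : Finset (Fin d) := Finset.univ.filter fun i : Fin d => (i : ℕ) < S.card with hT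
  have hTcard : T.card = S.card := by
    rw [hT, ← Fintype.card_subtype]
    exact Fintype.card_fin_lt_of_le hcard.le
  let e : {i // i ∈ T} ≃ {i // i ∈ S} := Fintype.equivOfCardEq (by simp [hTcard])
  let σ : Equiv.Perm (Fin d) := e.extendSubtype
  have hσ : ∀ i, σ i ∈ S ↔ i ∈ T := fun i =>
    ⟨fun hi => by_contra fun hn => e.extendSubtype_not_mem i hn hi, fun hi => e.extendSubtype_mem i hi⟩
  have hmem : ∀ g : GL (Fin d) F,
      (GLUnipotent.permGL σ)⁻¹ * g * GLUnipotent.permGL σ ∈ rad T ↔ g ∈ rad S := by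
    intro g
    simp only [mem_rad, co_permGL]
    constructor
    · intro h i j hij
      obtain ⟨i, rfl⟩ := σ.surjective i
      obtain ⟨j, rfl⟩ := σ.surjective j
      rw [h i j (by rwa [← hσ, ← hσ]), one_apply_inj _ σ.injective]
    · intro h i j hij
      rw [h (σ i) (σ j) (by rwa [hσ, hσ]), one_apply_inj _ σ.injective]
  refine Eq.trans ?_ (h S.card (Finset.card_pos.mpr hS) hcard)
  rw [sum_subgroup (rad (F := F) S) χ, sum_subgroup (rad (F := F) T) χ]
  refine Fintype.sum_equiv (MulAut.conj (GLUnipotent.permGL σ : GL (Fin d) F)⁻¹).toEquiv _ _ fun g => ?_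
  have e1 : (MulAut.conj (GLUnipotent.permGL σ : GL (Fin d) F)⁻¹).toEquiv g =
      (GLUnipotent.permGL σ)⁻¹ * g * GLUnipotent.permGL σ := by simp
  have e2 : χ ((GLUnipotent.permGL σ)⁻¹ * g * GLUnipotent.permGL σ) = χ g := by
    simpa using hχ g (GLUnipotent.permGL σ)⁻¹
  rw [e1, e2]
  simp only [hmem]

/-- The unipotent radical attached to a labelling. -/
def labU {k : ℕ} (l : Fin n → Fin k) : Subgroup (GL (Fin n) F) :=
  mkSub {g | ∀ i j, l j ≤ l i → (g : Matrix (Fin n) (Fin n) F) i j = (1 : Matrix (Fin n) (Fin n) F) i j}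
    (fun i j _ => rfl)
    (fun a b ha hb i j hij => by
      rw [Units.val_mul, Matrix.mul_apply, Finset.sum_eq_single i]
      · rw [ha i i le_rfl, hb i j hij, Matrix.one_apply_eq, one_mul]
      · intro p _ hp
        rcases le_total (l p) (l i) with h | h
        · rw [ha i p h, Matrix.one_apply_ne hp.symm, zero_mul]
        · rcases eq_or_ne p j with rfl | hpj
          · rw [ha i p hij, Matrix.one_apply_ne hp.symm, zero_mul]
          · rw [hb p j (hij.trans h), Matrix.one_apply_ne hpj, mul_zero]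
      · simp)

/-- A monotone surjective labelling is the labelling of a concatenated decomposition. -/
theorem exists_sizes {k : ℕ} {l : Fin n → Fin k} (hl : Monotone l) (hsurj : Function.Surjective l) :
    ∃ (d : Fin k → ℕ) (hn : ∑ a, d a = n), (∀ a, 0 < d a) ∧ ∀ x, l (concat d hn x) = x.1 := by
  let d : Fin k → ℕ := fun a => Fintype.card {i // l i = a}
  have hn : ∑ a, d a = n := by
    simp only [d]
    rw [← Fintype.card_sigma, Fintype.card_congr (Equiv.sigmaFiberEquiv l), Fintype.card_fin]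
  refine ⟨d, hn, fun a => Fintype.card_pos_iff.mpr ⟨⟨(hsurj a).choose, (hsurj a).choose_spec⟩⟩, ?_⟩
  let E₀ : (Σ a, Fin (d a)) ≃ Fin n :=
    (Equiv.sigmaCongrRight fun a => (Fintype.equivFin {i // l i = a}).symm).trans (Equiv.sigmaFiberEquiv l)
  let τ : Equiv.Perm (Fin n) := (concat d hn).symm.trans E₀
  have hE : ∀ x, l (E₀ x) = x.1 := fun x => ((Fintype.equivFin {i // l i = x.1}).symm x.2).2
  have h1 : (fun i => ((concat d hn).symm i).1) = l ∘ τ := funext fun i => (hE _).symm
  have h2 := Tuple.unique_monotone (f := l) (σ := τ) (τ := Equiv.refl _) (h1 ▸ label_mono d hn)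
    (by simpa using hl)
  intro x
  have := congrFun (h1.trans h2) (concat d hn x)
  simpa using this.symm

section Step

variable {k : ℕ} (d : Fin k → ℕ) (hn : ∑ a, d a = n) {π : GL (Fin n) F → ℂ}

theorem isIrr_parabFun {χ : ∀ a, GL (Fin (d a)) F → ℂ} (hχ : ∀ a, IsIrrCharacter _ (χ a)) :
    IsIrrCharacter _ (parabFun (concat d hn) χ) := by
  refine CT.isIrr_of_inner_self (isCharacter_parabFun _ fun a => CT.isCharacter_of_isIrr (hχ a)) ?_
  let Φ : parab (F := F) (concat d hn) →* ∀ a, GL (Fin (d a)) F := MonoidHom.pi fun a => blockHom (concat d hn) a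
  have hΦ : Function.Surjective Φ := fun l =>
    ⟨⟨blkDiag (concat d hn) l, blkDiag_mem _ l⟩, funext fun a => blockHom_blkDiag _ l a⟩
  have h1 : ∀ a, (Nat.card (GL (Fin (d a)) F) : ℂ)⁻¹ * ∑ g, χ a g * conj (χ a g) = 1 := fun a =>
    CT.irr_inner_self (hχ a)
  rw [classInner, show ∑ p : parab (F := F) (concat d hn),
      parabFun (concat d hn) χ p * conj (parabFun (concat d hn) χ p) =
      ∑ p : parab (F := F) (concat d hn), (fun l => ∏ a, χ a (l a) * conj (χ a (l a))) (Φ p) from
      Finset.sum_congr rfl fun p _ => by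
        simp only [parabFun, map_prod, ← Finset.prod_mul_distrib]
        rfl,
    sum_comp_hom Φ hΦ (fun l => ∏ a, χ a (l a) * conj (χ a (l a))),
    ← Fintype.prod_sum (fun a g => χ a g * conj (χ a g)), Nat.card_pi, ← mul_assoc, ← mul_assoc,
    inv_mul_cancel₀ (Nat.cast_ne_zero.mpr Nat.card_pos.ne'), one_mul]
  push_cast
  rw [← Finset.prod_inv_distrib, ← Finset.prod_mul_distrib]
  exact Finset.prod_eq_one fun a _ => h1 a

theorem sum_char_nonneg {G : Type u} [Group G] [Fintype G] {θ : G → ℂ} (hθ : IsCharacter G θ)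
    (U : Subgroup G) [Fintype U] : ∃ m : ℕ, ∑ v : U, θ v = (m : ℂ) := by
  obtain ⟨m, hm⟩ := CT.classInner_character_nat (CT.isCharacter_restrict U hθ) (CT.isCharacter_one (G := U))
  refine ⟨Nat.card U * m, ?_⟩
  simp only [classInner, map_one, mul_one] at hm
  push_cast
  rw [← hm, ← mul_assoc, mul_inv_cancel₀ (Nat.cast_ne_zero.mpr Nat.card_pos.ne'), one_mul]

theorem exists_constituent_of_sum (hπ : IsCharacter _ π) (l : Fin n → Fin k)
    (hlab : ∀ x, l (concat d hn x) = x.1) (hT : ∑ v : labU (F := F) l, π v ≠ 0) :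
    ∃ χ : ∀ a, IrrCharacter (GL (Fin (d a)) F),
      classInner π (parabInd (concat d hn) fun a => (χ a : GL (Fin (d a)) F → ℂ)) ≠ 0 := by
  by_contra hall
  push Not at hall
  apply hT
  set E := concat d hn with hE
  have h0 : ∀ χ : ∀ a, IrrCharacter (GL (Fin (d a)) F),
      ∑ p : parab (F := F) E, π p * conj (parabFun E (fun a => (χ a : GL (Fin (d a)) F → ℂ)) p) = 0 := by
    intro χ
    have := hall χ
    rw [parabInd, CT.frobenius_reciprocity' _ (CT.isClassFunction_of_isCharacter hπ), classInner,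
      mul_eq_zero] at this
    exact this.resolve_left (inv_ne_zero (Nat.cast_ne_zero.mpr Nat.card_pos.ne'))
  have hreg : ∀ p : parab (F := F) E, ∑ χ : ∀ a, IrrCharacter (GL (Fin (d a)) F),
      (∏ a, (χ a : GL (Fin (d a)) F → ℂ) 1) * conj (parabFun E (fun a => (χ a : GL (Fin (d a)) F → ℂ)) p) =
        if ∀ a, blockHom E a p = 1 then ∏ a, (Nat.card (GL (Fin (d a)) F) : ℂ) else 0 := by
    intro p
    have h1 : ∀ a, ∑ c : IrrCharacter (GL (Fin (d a)) F),
        (c : GL (Fin (d a)) F → ℂ) 1 * conj ((c : GL (Fin (d a)) F → ℂ) (blockHom E a p)) =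
          if blockHom E a p = 1 then (Nat.card (GL (Fin (d a)) F) : ℂ) else 0 := by
      intro a
      have h3 : ∀ c : IrrCharacter (GL (Fin (d a)) F),
          (c : GL (Fin (d a)) F → ℂ) 1 * conj ((c : GL (Fin (d a)) F → ℂ) (blockHom E a p)) =
            (c : GL (Fin (d a)) F → ℂ) 1 * (c : GL (Fin (d a)) F → ℂ) (blockHom E a p)⁻¹ := fun c => by
        rw [CT.char_inv_eq_conj (CT.isCharacter_of_isIrr c.2)]
      rw [Finset.sum_congr rfl fun c _ => h3 c]
      have h2 := CT.regular_eq_sum (G := GL (Fin (d a)) F) (blockHom E a p)⁻¹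
      simp only [inv_eq_one] at h2
      by_cases hb : blockHom E a p = 1
      · rw [if_pos hb] at h2 ⊢
        exact h2
      · rw [if_neg hb] at h2 ⊢
        exact h2
    simp only [parabFun, map_prod, ← Finset.prod_mul_distrib]
    rw [← Fintype.prod_sum fun a (c : IrrCharacter (GL (Fin (d a)) F)) => (c : GL (Fin (d a)) F → ℂ) 1 *
        conj ((c : GL (Fin (d a)) F → ℂ) (blockHom E a p)), Finset.prod_congr rfl fun a _ => h1 a]
    split_ifs with hp
    · exact Finset.prod_congr rfl fun a _ => if_pos (hp a)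
    · obtain ⟨a, ha⟩ := not_forall.mp hp
      exact Finset.prod_eq_zero (Finset.mem_univ a) (if_neg ha)
  have h2 : ∑ p : parab (F := F) E, π p *
      (if ∀ a, blockHom E a p = 1 then ∏ a, (Nat.card (GL (Fin (d a)) F) : ℂ) else 0) = 0 := by
    simp only [← hreg, Finset.mul_sum]
    rw [Finset.sum_comm]
    refine Finset.sum_eq_zero fun χ _ => ?_
    simp only [mul_left_comm (π _)]
    rw [← Finset.mul_sum, h0, mul_zero]
  have hmem : ∀ g : GL (Fin n) F, g ∈ labU l ↔ ∃ h : g ∈ parab E, ∀ a, blockHom E a ⟨g, h⟩ = 1 := by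
    intro g
    have hone : ∀ x y : Σ a, Fin (d a), (1 : Matrix (Fin n) (Fin n) F) (E x) (E y) =
        (1 : Matrix (Σ a, Fin (d a)) (Σ a, Fin (d a)) F) x y := fun x y =>
      one_apply_inj _ E.injective x y
    constructor
    · intro hg
      have hgP : g ∈ parab E := fun x y h => by
        show (g : Matrix (Fin n) (Fin n) F) (E x) (E y) = 0
        rw [hg _ _ (by rw [hlab, hlab]; exact h.le), hone, Matrix.one_apply_ne]
        exact fun e => h.ne (congrArg Sigma.fst e).symm
      refine ⟨hgP, fun a => Units.ext (Matrix.ext fun r s => ?_)⟩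
      rw [blockHom_val]
      show (g : Matrix (Fin n) (Fin n) F) (E ⟨a, r⟩) (E ⟨a, s⟩) = _
      rw [hg _ _ (by rw [hlab, hlab]), hone]
      simp [Matrix.one_apply]
    · rintro ⟨hgP, hblk⟩ i j hij
      obtain ⟨⟨a, r⟩, rfl⟩ := E.surjective i
      obtain ⟨⟨b, s⟩, rfl⟩ := E.surjective j
      rw [hlab, hlab] at hij
      rw [hone]
      rcases eq_or_lt_of_le (hij : b ≤ a) with rfl | hlt
      · have := Matrix.ext_iff.mpr (congrArg Units.val (hblk b)) r s
        rw [blockHom_val] at this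
        rw [show (g : Matrix (Fin n) (Fin n) F) (E ⟨b, r⟩) (E ⟨b, s⟩) = _ from this]
        simp [Matrix.one_apply]
      · rw [Matrix.one_apply_ne (fun e => hlt.ne' (congrArg Sigma.fst e))]
        exact hgP ⟨a, r⟩ ⟨b, s⟩ hlt
  let e : {p : parab (F := F) E // ∀ a, blockHom E a p = 1} ≃ labU (F := F) l :=
    { toFun := fun p => ⟨p.1.1, (hmem _).mpr ⟨p.1.2, p.2⟩⟩
      invFun := fun g => ⟨⟨g.1, ((hmem _).mp g.2).1⟩, ((hmem _).mp g.2).2⟩
      left_inv := fun p => rfl
      right_inv := fun g => rfl }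
  simp only [mul_ite, mul_zero] at h2
  rw [← Finset.sum_filter, ← Finset.sum_mul,
    Finset.sum_subtype (Finset.univ.filter fun p : parab (F := F) E => ∀ a, blockHom E a p = 1)
      (p := fun p : parab (F := F) E => ∀ a, blockHom E a p = 1) (by simp), mul_eq_zero] at h2
  rw [← Equiv.sum_comp e]
  exact h2.resolve_right (Finset.prod_ne_zero_iff.mpr fun a _ => Nat.cast_ne_zero.mpr Nat.card_pos.ne')

theorem exists_refinement (hπ : IsCharacter _ π) (χ : ∀ a, IrrCharacter (GL (Fin (d a)) F))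
    (hc : classInner π (parabInd (concat d hn) fun a => (χ a : GL (Fin (d a)) F → ℂ)) ≠ 0)
    (hd : ∀ a, 0 < d a) (a : Fin k) (m : ℕ) (hm : 0 < m) (hma : m < d a)
    (hsum : ∑ v : rad (F := F) (Finset.univ.filter fun i : Fin (d a) => (i : ℕ) < m),
      (χ a : GL (Fin (d a)) F → ℂ) v ≠ 0) :
    ∃ l : Fin n → Fin (k + 1), Monotone l ∧ Function.Surjective l ∧ ∑ v : labU (F := F) l, π v ≠ 0 := by
  set E := concat d hn with hE
  let cut : Fin n := E ⟨a, ⟨m, hma⟩⟩
  let lab : Fin n → Fin k := fun i => (E.symm i).1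
  let l : Fin n → Fin (k + 1) := fun i => if i < cut then (lab i).castSucc else (lab i).succ
  have hlabm : Monotone lab := label_mono d hn
  have hlm : Monotone l := by
    intro i j hij
    simp only [l]
    have h := Fin.le_def.mp (hlabm hij)
    split_ifs with h1 h2 h3
    · exact Fin.castSucc_le_castSucc_iff.mpr (hlabm hij)
    · simp only [Fin.le_def, Fin.val_castSucc, Fin.val_succ]; omega
    · exact absurd (lt_of_le_of_lt hij h3) h1
    · exact Fin.succ_le_succ_iff.mpr (hlabm hij)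
  have hlow : ∀ x : Σ a, Fin (d a), x.1 < a → l (E x) = x.1.castSucc := fun x hx => by
    simp only [l, lab, cut, hE, Equiv.symm_apply_apply]
    exact if_pos (concat_lt d hn (x := x) (y := ⟨a, ⟨m, hma⟩⟩) hx)
  have hhigh : ∀ x : Σ a, Fin (d a), a < x.1 → l (E x) = x.1.succ := fun x hx => by
    simp only [l, lab, cut, hE, Equiv.symm_apply_apply]
    exact if_neg (not_lt.mpr (concat_lt d hn (x := ⟨a, ⟨m, hma⟩⟩) (y := x) hx).le)
  have hmid : ∀ r : Fin (d a), l (E ⟨a, r⟩) = if (r : ℕ) < m then a.castSucc else a.succ := fun r => by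
    by_cases h : (r : ℕ) < m
    · rw [if_pos h]
      simp only [l, lab, cut, hE, if_pos ((concat_lt_iff_same d hn a r ⟨m, hma⟩).mpr (Fin.lt_def.mpr h)),
        Equiv.symm_apply_apply]
    · rw [if_neg h]
      simp only [l, lab, cut, hE, if_neg (fun e => h (Fin.lt_def.mp ((concat_lt_iff_same d hn a r ⟨m, hma⟩).mp e))),
        Equiv.symm_apply_apply]
  refine ⟨l, hlm, fun c => ?_, ?_⟩
  · rcases lt_trichotomy (c : ℕ) ((a : ℕ) + 1) with h | h | h
    · let b : Fin k := ⟨c, by have := a.2; omega⟩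
      refine ⟨E ⟨b, ⟨0, hd b⟩⟩, ?_⟩
      rcases eq_or_lt_of_le (show b ≤ a from Fin.le_def.mpr (show (c : ℕ) ≤ a by omega)) with e | e
      · have hr : (0 : ℕ) < m := hm
        have := hmid ⟨0, hd a⟩
        rw [if_pos hr] at this
        have e' : (⟨b, ⟨0, hd b⟩⟩ : Σ a, Fin (d a)) = ⟨a, ⟨0, hd a⟩⟩ := by
          clear_value b; subst e; rfl
        rw [e', this]
        exact Fin.ext (by simp [← e, b])
      · rw [hlow _ e]
        exact Fin.ext rfl
    · refine ⟨E ⟨a, ⟨m, hma⟩⟩, ?_⟩
      rw [hmid, if_neg (by simp)]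
      exact Fin.ext (by simp [h])
    · let b : Fin k := ⟨(c : ℕ) - 1, by have := c.2; omega⟩
      refine ⟨E ⟨b, ⟨0, hd b⟩⟩, ?_⟩
      rw [hhigh _ (Fin.lt_def.mpr (show (a : ℕ) < (c : ℕ) - 1 by omega))]
      exact Fin.ext (show (c : ℕ) - 1 + 1 = c by omega)
  set S : Finset (Fin (d a)) := Finset.univ.filter fun i : Fin (d a) => (i : ℕ) < m with hS
  set f : parab (F := F) E → ℂ := parabFun E fun b => (χ b : GL (Fin (d b)) F → ℂ) with hf
  have hone : ∀ x y : Σ a, Fin (d a), (1 : Matrix (Fin n) (Fin n) F) (E x) (E y) =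
      (1 : Matrix (Σ a, Fin (d a)) (Σ a, Fin (d a)) F) x y := fun x y =>
    one_apply_inj _ E.injective x y
  have hle : ∀ g ∈ labU (F := F) l, g ∈ parab E := by
    intro g hg x y h
    show (g : Matrix (Fin n) (Fin n) F) (E x) (E y) = 0
    have hl : l (E y) ≤ l (E x) := hlm (concat_lt d hn h).le
    rw [hg _ _ hl, hone, Matrix.one_apply_ne]
    exact fun e => h.ne (congrArg Sigma.fst e).symm
  have hblk : ∀ (v : labU (F := F) l) (b : Fin k) (r s : Fin (d b)),
      (b = a → ¬((r : ℕ) < m ∧ ¬((s : ℕ) < m))) →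
      co E (v : GL (Fin n) F) ⟨b, r⟩ ⟨b, s⟩ = (1 : Matrix (Fin (d b)) (Fin (d b)) F) r s := by
    intro v b r s hcond
    show ((v : GL (Fin n) F) : Matrix (Fin n) (Fin n) F) (E ⟨b, r⟩) (E ⟨b, s⟩) = _
    have hl : l (E ⟨b, s⟩) ≤ l (E ⟨b, r⟩) := by
      rcases lt_trichotomy b a with h | rfl | h
      · rw [hlow _ h, hlow _ h]
      · rw [hmid, hmid]
        have := hcond rfl
        split_ifs <;> first | exact le_rfl | exact (Fin.castSucc_lt_succ (i := b)).le | exact absurd ⟨by assumption, by assumption⟩ this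
      · rw [hhigh _ h, hhigh _ h]
    rw [v.2 _ _ hl, hone]
    simp [Matrix.one_apply]
  let Φ : labU (F := F) l →* rad (F := F) S :=
    MonoidHom.codRestrict ((blockHom E a).comp (Subgroup.inclusion hle)) (rad S) fun v r s hrs => by
      rw [MonoidHom.comp_apply, blockHom_val]
      refine hblk v a r s fun _ h => hrs ?_
      simpa [hS] using h
  have hΦ : Function.Surjective Φ := by
    intro u
    refine ⟨⟨blkDiag E (Pi.mulSingle a (u : GL (Fin (d a)) F)), ?_⟩, Subtype.ext ?_⟩
    · intro i j hij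
      obtain ⟨⟨b, r⟩, rfl⟩ := E.surjective i
      obtain ⟨⟨c, s⟩, rfl⟩ := E.surjective j
      have := congrFun₂ (co_blkDiag E (Pi.mulSingle a (u : GL (Fin (d a)) F))) ⟨b, r⟩ ⟨c, s⟩
      simp only [co, Matrix.submatrix_apply] at this
      rw [this, hone]
      rcases eq_or_ne b c with rfl | hbc
      · rw [Matrix.blockDiagonal'_apply_eq]
        rcases eq_or_ne b a with rfl | hba
        · rw [Pi.mulSingle_eq_same, u.2 r s]
          · simp [Matrix.one_apply]
          · rintro ⟨h1, h2⟩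
            simp only [hS, Finset.mem_filter, Finset.mem_univ, true_and] at h1 h2
            rw [hmid, hmid, if_pos h1, if_neg h2] at hij
            exact absurd hij (not_le.mpr Fin.castSucc_lt_succ)
        · rw [Pi.mulSingle_eq_of_ne hba]
          simp [Matrix.one_apply]
      · rw [Matrix.blockDiagonal'_apply_ne _ _ _ hbc, Matrix.one_apply_ne]
        exact fun e => hbc (congrArg Sigma.fst e)
    · show blockHom E a ⟨blkDiag E _, _⟩ = _
      rw [blockHom_blkDiag, Pi.mulSingle_eq_same]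
  have hrest : ∀ v : labU (F := F) l, f ⟨v, hle _ v.2⟩ = (χ a : GL (Fin (d a)) F → ℂ) (Φ v) *
      ∏ b ∈ Finset.univ.erase a, (χ b : GL (Fin (d b)) F → ℂ) 1 := by
    intro v
    rw [hf, parabFun, ← Finset.mul_prod_erase _ _ (Finset.mem_univ a)]
    congr 1
    refine Finset.prod_congr rfl fun b hb => congrArg _ (Units.ext (Matrix.ext fun r s => ?_))
    rw [blockHom_val]
    exact hblk v b r s fun e => absurd e (Finset.ne_of_mem_erase hb)
  let U' : Subgroup (parab (F := F) E) := (labU l).subgroupOf (parab E)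
  have hsumU : ∀ θ : parab (F := F) E → ℂ, ∑ v : U', θ v = ∑ v : labU (F := F) l, θ ⟨v, hle _ v.2⟩ := fun θ =>
    Fintype.sum_equiv (Subgroup.subgroupOfEquivOfLe (show labU (F := F) l ≤ parab E from hle)).toEquiv _ _
      fun v => rfl
  have hfne : ∑ v : U', f v ≠ 0 := by
    rw [hsumU, Finset.sum_congr rfl fun v _ => hrest v, ← Finset.sum_mul,
      sum_comp_hom Φ hΦ (fun u : rad (F := F) S => (χ a : GL (Fin (d a)) F → ℂ) u)]
    refine mul_ne_zero (mul_ne_zero (mul_ne_zero (Nat.cast_ne_zero.mpr Nat.card_pos.ne')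
      (inv_ne_zero (Nat.cast_ne_zero.mpr Nat.card_pos.ne'))) hsum) (Finset.prod_ne_zero_iff.mpr fun b _ => ?_)
    rw [CT.deg_eq (CT.isCharacter_of_isIrr (χ b).2)]
    exact Nat.cast_ne_zero.mpr (CT.deg_pos (χ b).2).ne'
  have hres : IsCharacter _ (fun p : parab (F := F) E => π p) := CT.isCharacter_restrict _ hπ
  let f' : IrrCharacter (parab (F := F) E) := ⟨f, isIrr_parabFun d hn fun b => (χ b).2⟩
  choose μ hμ using fun c : IrrCharacter (parab (F := F) E) =>
    CT.classInner_character_nat hres (CT.isCharacter_of_isIrr c.2)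
  have hdec : ∀ p : parab (F := F) E, π p = ∑ c : IrrCharacter (parab (F := F) E),
      (μ c : ℂ) * (c : parab (F := F) E → ℂ) p := by
    intro p
    have h := congrFun (CT.classFunction_eq_sum (CT.isClassFunction_of_isCharacter hres)) p
    simp only [hμ, Finset.sum_apply, Pi.smul_apply, smul_eq_mul] at h
    exact h
  choose ν hν using fun c : IrrCharacter (parab (F := F) E) =>
    sum_char_nonneg (CT.isCharacter_of_isIrr c.2) U'
  have hμf : μ f' ≠ 0 := by
    intro h0
    apply hc
    rw [parabInd, CT.frobenius_reciprocity' _ (CT.isClassFunction_of_isCharacter hπ)]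
    have := hμ f'
    rw [h0, Nat.cast_zero] at this
    exact this
  have hνf : ν f' ≠ 0 := by
    intro h0
    apply hfne
    have := hν f'
    rw [h0, Nat.cast_zero] at this
    exact this
  have htot : ∑ v : labU (F := F) l, π v = ((∑ c, μ c * ν c : ℕ) : ℂ) := by
    rw [← hsumU (fun p => π p)]
    simp only [hdec]
    rw [Finset.sum_comm]
    push_cast
    exact Finset.sum_congr rfl fun c _ => by rw [← Finset.mul_sum, hν c]
  rw [htot]
  refine Nat.cast_ne_zero.mpr fun h => ?_
  exact mul_ne_zero hμf hνf (Finset.sum_eq_zero_iff.mp h f' (Finset.mem_univ _))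

end Step

theorem exists_datum (hn : 0 < n) {π : GL (Fin n) F → ℂ} (hπ : IsIrrCharacter _ π) :
    ∃ D : Datum F n, classInner π D.ind ≠ 0 := by
  have hchar := CT.isCharacter_of_isIrr hπ
  let Good : ℕ → Prop := fun k => ∃ l : Fin n → Fin k,
    Monotone l ∧ Function.Surjective l ∧ ∑ v : labU (F := F) l, π v ≠ 0
  have hbound : ∀ k, Good k → k ≤ n := fun k ⟨l, _, hs, _⟩ => by
    simpa using Fintype.card_le_of_surjective l hs
  have hone : Good 1 := by
    refine ⟨fun _ => 0, fun _ _ _ => le_rfl, fun c => ⟨⟨0, hn⟩, Subsingleton.elim _ _⟩, ?_⟩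
    have hall : ∀ g : labU (F := F) (fun _ : Fin n => (0 : Fin 1)), g = 1 := fun g =>
      Subtype.ext (Units.ext (Matrix.ext fun i j => g.2 i j le_rfl))
    rw [Fintype.sum_eq_single 1 fun g hg => absurd (hall g) hg, Subgroup.coe_one, CT.deg_eq hchar]
    exact Nat.cast_ne_zero.mpr (CT.deg_pos hπ).ne'
  let k := Nat.findGreatest Good n
  have hk : Good k := Nat.findGreatest_spec (show 1 ≤ n from hn) hone
  obtain ⟨l, hlm, hls, hT⟩ := hk
  obtain ⟨d, hd, hpos, hlab⟩ := exists_sizes hlm hls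
  obtain ⟨χ, hc⟩ := exists_constituent_of_sum d hd hchar l hlab hT
  have hcusp : ∀ a, IsCusp (χ a : GL (Fin (d a)) F → ℂ) := by
    intro a
    refine isCusp_of_initial (CT.isClassFunction_of_isIrr (χ a).2) fun m hm hma => ?_
    by_contra hne
    have hgood : Good (k + 1) := exists_refinement d hd hchar χ hc hpos a m hm hma hne
    exact Nat.findGreatest_is_greatest (lt_add_one k) (hbound _ hgood) hgood
  exact ⟨⟨k, fun a => ⟨d a, χ a, hpos a, hcusp a⟩, hd⟩, hc⟩

end Cfsg.Agent.GLCusp
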