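import Cfsg.Agent.Lib.GLCusp.Datum

set_option autoImplicit false
set_option linter.unusedSectionVars false

/-!
The upper unitriangular group, its generic linear character, and the degree of a cuspidal character.
-/

namespace Cfsg.Agent.GLCusp

open Cfsg Matrix
open scoped ComplexConjugate Classical

universe u

variable {F : Type u} [Field F] [Fintype F] [DecidableEq F]

/-- Unitriangular matrices whose first `k` columns are trivial. -/
def colY (n k : ℕ) : Subgroup (GL (Fin n) F) :=
  mkSub {g | ∀ i j : Fin n, (j ≤ i ∨ (j : ℕ) < k) →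
      (g : Matrix (Fin n) (Fin n) F) i j = (1 : Matrix (Fin n) (Fin n) F) i j}
    (fun i j _ => rfl)
    (fun a b ha hb i j hij => by
      rw [Units.val_mul, Matrix.mul_apply, Finset.sum_eq_single i]
      · rw [ha i i (Or.inl le_rfl), hb i j hij, Matrix.one_apply_eq, one_mul]
      · intro l _ hl
        rcases lt_or_gt_of_ne hl with h | h
        · rw [ha i l (Or.inl h.le), Matrix.one_apply_ne hl.symm, zero_mul]
        · have hb' : (j ≤ l ∨ (j : ℕ) < k) := hij.imp (fun e => e.trans h.le) id
          rcases hij with e | e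
          · rw [hb l j hb', Matrix.one_apply_ne (fun e' : l = j => by rw [e'] at h; exact absurd e (not_le.mpr h)),
              mul_zero]
          · rcases eq_or_ne l j with rfl | hlj
            · rw [ha i l (Or.inr e), Matrix.one_apply_ne hl.symm, zero_mul]
            · rw [hb l j hb', Matrix.one_apply_ne hlj, mul_zero]
      · simp)

theorem mem_colY {n k : ℕ} {g : GL (Fin n) F} : g ∈ colY n k ↔ ∀ i j : Fin n, (j ≤ i ∨ (j : ℕ) < k) →
    (g : Matrix (Fin n) (Fin n) F) i j = (1 : Matrix (Fin n) (Fin n) F) i j := Iff.rfl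

/-- The upper unitriangular subgroup. -/
abbrev uni (n : ℕ) : Subgroup (GL (Fin n) F) := colY n 0

theorem colY_le {n k : ℕ} : colY (F := F) n k ≤ uni n := fun g hg i j h =>
  hg i j (h.imp id fun e => absurd e (Nat.not_lt_zero _))

theorem uni_upper {n : ℕ} {g : GL (Fin n) F} (hg : g ∈ uni n) :
    g.val.BlockTriangular id := fun i j h => by
  rw [hg i j (Or.inl (le_of_lt h))]
  exact Matrix.one_apply_ne (fun e : i = j => (ne_of_gt h) e)

/-- The sum of the superdiagonal entries in the rows from `k` on. -/
def superSum {n : ℕ} (k : ℕ) (g : GL (Fin n) F) : F :=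
  ∑ i : Fin n, ∑ j : Fin n, if k ≤ (i : ℕ) ∧ (j : ℕ) = i + 1 then (g : Matrix (Fin n) (Fin n) F) i j else 0

theorem entry_mul {n : ℕ} {g h : GL (Fin n) F} (hg : g ∈ uni n) (hh : h ∈ uni n) {i j : Fin n}
    (hij : (j : ℕ) = i + 1) : ((g * h : GL (Fin n) F) : Matrix (Fin n) (Fin n) F) i j =
      (g : Matrix (Fin n) (Fin n) F) i j + (h : Matrix (Fin n) (Fin n) F) i j := by
  have hne : i ≠ j := fun e => by rw [e] at hij; omega
  rw [Units.val_mul, Matrix.mul_apply, ← Finset.sum_subset (Finset.subset_univ {i, j}), Finset.sum_pair hne,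
    hg i i (Or.inl le_rfl), hh j j (Or.inl le_rfl), Matrix.one_apply_eq, Matrix.one_apply_eq, one_mul,
    mul_one, add_comm]
  intro l _ hl
  simp only [Finset.mem_insert, Finset.mem_singleton, not_or] at hl
  rcases lt_or_gt_of_ne hl.1 with h1 | h1
  · rw [hg i l (Or.inl h1.le), Matrix.one_apply_ne (Ne.symm hl.1), zero_mul]
  · have h2 : j ≤ l := Fin.le_def.mpr (by have := Fin.lt_def.mp h1; omega)
    rw [hh l j (Or.inl h2), Matrix.one_apply_ne hl.2, mul_zero]

theorem superSum_mul {n : ℕ} (k : ℕ) {g h : GL (Fin n) F} (hg : g ∈ uni n) (hh : h ∈ uni n) :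
    superSum k (g * h) = superSum k g + superSum k h := by
  simp only [superSum, ← Finset.sum_add_distrib]
  refine Finset.sum_congr rfl fun i _ => Finset.sum_congr rfl fun j _ => ?_
  split_ifs with hc
  · exact entry_mul hg hh hc.2
  · simp

theorem superSum_one {n : ℕ} (k : ℕ) : superSum k (1 : GL (Fin n) F) = 0 := by
  refine Finset.sum_eq_zero fun i _ => Finset.sum_eq_zero fun j _ => ?_
  split_ifs with hc
  · rw [Units.val_one, Matrix.one_apply_ne]
    intro e
    rw [e] at hc
    omega
  · rfl

variable (F) in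
/-- A fixed non-trivial additive character. -/
noncomputable def psi0 : AddChar F ℂ := AddChar.FiniteField.primitiveChar_to_Complex F

theorem psi0_primitive : (psi0 F).IsPrimitive :=
  AddChar.FiniteField.primitiveChar_to_Complex_isPrimitive F

theorem psi0_ne_one : ∃ t : F, psi0 F t ≠ 1 := by
  by_contra h
  push Not at h
  have := psi0_primitive (F := F) (one_ne_zero)
  exact this (DFunLike.ext _ _ fun t => by simpa using h t)

/-- The generic linear character of the unitriangular group. -/
noncomputable def psiFun (n : ℕ) : uni (F := F) n → ℂ := fun u => psi0 F (superSum 0 (u : GL (Fin n) F))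

theorem psiFun_mul {n : ℕ} (u v : uni (F := F) n) : psiFun n (u * v) = psiFun n u * psiFun n v := by
  rw [psiFun, psiFun, psiFun, Subgroup.coe_mul, superSum_mul 0 u.2 v.2, AddChar.map_add_eq_mul]

theorem psiFun_one {n : ℕ} : psiFun (F := F) n 1 = 1 := by
  rw [psiFun, Subgroup.coe_one, superSum_one, AddChar.map_zero_eq_one]

theorem isClassFunction_psiFun (n : ℕ) : IsClassFunction _ (psiFun (F := F) n) := by
  intro g h
  rw [psiFun_mul, psiFun_mul, mul_comm (psiFun n h), mul_assoc, ← psiFun_mul h h⁻¹, mul_inv_cancel,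
    psiFun_one, mul_one]

theorem isCharacter_psiFun (n : ℕ) : IsCharacter _ (psiFun (F := F) n) := by
  let φ : uni (F := F) n →* ℂ :=
    { toFun := psiFun n, map_one' := psiFun_one, map_mul' := psiFun_mul }
  exact CT.isCharacter_lin φ.toHomUnits

/-- Matrices trivial outside the leading `k × k` block. -/
def lead (n k : ℕ) : Subgroup (GL (Fin n) F) :=
  mkSub {g | ∀ i j : Fin n, (k ≤ (i : ℕ) ∨ k ≤ (j : ℕ)) →
      (g : Matrix (Fin n) (Fin n) F) i j = (1 : Matrix (Fin n) (Fin n) F) i j}
    (fun i j _ => rfl)
    (fun a b ha hb i j hij => by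
      rw [Units.val_mul, Matrix.mul_apply]
      rcases hij with hi | hj
      · rw [Finset.sum_eq_single i]
        · rw [ha i i (Or.inl hi), hb i j (Or.inl hi), Matrix.one_apply_eq, one_mul]
        · intro l _ hl
          rw [ha i l (Or.inl hi), Matrix.one_apply_ne hl.symm, zero_mul]
        · simp
      · rw [Finset.sum_eq_single j]
        · rw [hb j j (Or.inr hj), ha i j (Or.inr hj), Matrix.one_apply_eq, mul_one]
        · intro l _ hl
          rw [hb l j (Or.inr hj), Matrix.one_apply_ne hl, mul_zero]
        · simp)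

theorem exists_lead {n k : ℕ} {a : Fin n → F} (ha : ∀ i : Fin n, k ≤ (i : ℕ) → a i = 0) {i₀ p : Fin n}
    (hi₀ : a i₀ ≠ 0) (hp : (p : ℕ) < k) :
    ∃ h ∈ lead (F := F) n k, ∀ r, (h : Matrix (Fin n) (Fin n) F) p r = a r := by
  classical
  have hik : (i₀ : ℕ) < k := by
    by_contra hh
    exact hi₀ (ha i₀ (not_lt.mp hh))
  let M : Matrix (Fin n) (Fin n) F :=
    fun i j => if i = p then a j else (1 : Matrix (Fin n) (Fin n) F) (Equiv.swap i₀ p i) j
  have hinj : Function.Injective M.mulVec := by
    intro x y hxy
    have hrow : ∀ i, i ≠ p → x (Equiv.swap i₀ p i) = y (Equiv.swap i₀ p i) := by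
      intro i hi
      have := congrFun hxy i
      simpa [Matrix.mulVec, dotProduct, M, hi, Matrix.one_apply] using this
    have hother : ∀ j, j ≠ i₀ → x j = y j := by
      intro j hj
      have := hrow (Equiv.swap i₀ p j) (fun e => hj (by simpa using (Equiv.swap i₀ p).injective (e.trans (Equiv.swap_apply_left i₀ p).symm)))
      simpa using this
    funext j
    rcases eq_or_ne j i₀ with rfl | hj
    · have := congrFun hxy p
      simp only [Matrix.mulVec, dotProduct, M, if_pos] at this
      rw [← Finset.add_sum_erase _ _ (Finset.mem_univ j), ← Finset.add_sum_erase _ (fun z => a z * y z)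
        (Finset.mem_univ j), Finset.sum_congr rfl (fun z hz => by rw [hother z (Finset.ne_of_mem_erase hz)])] at this
      exact mul_left_cancel₀ hi₀ (add_right_cancel this)
    · exact hother j hj
  refine ⟨(Matrix.mulVec_injective_iff_isUnit.mp hinj).unit, ?_, fun r => if_pos rfl⟩
  intro i j hij
  show M i j = _
  rcases hij with hi | hj
  · have h1 : i ≠ p := fun e => by rw [e] at hi; omega
    have h2 : i ≠ i₀ := fun e => by rw [e] at hi; omega
    simp only [M, if_neg h1]
    rw [Equiv.swap_apply_of_ne_of_ne h2 h1]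
  · have h1 : j ≠ p := fun e => by rw [e] at hj; omega
    have h2 : j ≠ i₀ := fun e => by rw [e] at hj; omega
    rcases eq_or_ne i p with rfl | hi
    · simp only [M, if_pos, ha j hj, Matrix.one_apply_ne h1.symm]
    · simp only [M, if_neg hi]
      rcases eq_or_ne i i₀ with rfl | hii
      · rw [Equiv.swap_apply_left, Matrix.one_apply_ne h1.symm, Matrix.one_apply_ne h2.symm]
      · rw [Equiv.swap_apply_of_ne_of_ne hii hi]

section Degree

variable {n : ℕ}

open Classical in
theorem sum_subgroup {G : Type u} [Group G] [Fintype G] (H : Subgroup G) (Φ : G → ℂ) :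
    ∑ x : H, Φ x = ∑ g : G, if g ∈ H then Φ g else 0 := by
  rw [← Finset.sum_filter]
  exact (Finset.sum_subtype _ (by simp) Φ).symm

theorem colY_anti {j k : ℕ} (h : j ≤ k) : colY (F := F) n k ≤ colY n j := fun _ hg a b hab =>
  hg a b (hab.imp id fun e => lt_of_lt_of_le e h)

theorem superSum_split {k : ℕ} {P K : Fin n} (hP : (P : ℕ) + 1 = k) (hK : (K : ℕ) = k)
    {g : GL (Fin n) F} (hg : g ∈ colY n k) :
    superSum 0 g = (g : Matrix (Fin n) (Fin n) F) P K + superSum k g := by
  have h1 : ∀ i j : Fin n,
      (if 0 ≤ (i : ℕ) ∧ (j : ℕ) = i + 1 then (g : Matrix (Fin n) (Fin n) F) i j else 0) =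
        (if i = P then (if j = K then (g : Matrix (Fin n) (Fin n) F) i j else 0) else 0) +
          (if k ≤ (i : ℕ) ∧ (j : ℕ) = i + 1 then (g : Matrix (Fin n) (Fin n) F) i j else 0) := by
    intro i j
    by_cases h : (j : ℕ) = i + 1
    · rcases lt_trichotomy ((i : ℕ) + 1) k with h' | h' | h'
      · have hz : (g : Matrix (Fin n) (Fin n) F) i j = 0 := by
          rw [hg i j (Or.inr (by omega)), Matrix.one_apply_ne]
          intro e
          rw [e] at h
          omega
        simp [hz]
      · have hi : i = P := Fin.ext (by omega)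
        have hj : j = K := Fin.ext (by omega)
        rw [if_pos ⟨Nat.zero_le _, h⟩, if_pos hi, if_pos hj, if_neg (by omega), add_zero]
      · have hi : i ≠ P := fun e => by rw [e] at h'; omega
        rw [if_pos ⟨Nat.zero_le _, h⟩, if_neg hi, if_pos ⟨by omega, h⟩, zero_add]
    · simp only [h, and_false, if_false]
      by_cases hi : i = P
      · have : j ≠ K := fun e => h (by rw [e, hi]; omega)
        simp [this]
      · simp [hi]
  simp only [superSum, h1, Finset.sum_add_distrib]
  simp

theorem degree_step {χ : GL (Fin n) F → ℂ} (hχ : IsCharacter _ χ) (hc : IsCusp χ) {k : ℕ}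
    (hk : 1 ≤ k) (hkn : k < n) :
    (Nat.card (colY (F := F) n (k + 1)) : ℂ)⁻¹ *
        (∑ g : colY (F := F) n (k + 1), χ g * conj (psi0 F (superSum 0 (g : GL (Fin n) F)))) =
      ((Fintype.card F : ℂ) ^ k - 1) * ((Nat.card (colY (F := F) n k) : ℂ)⁻¹ *
        ∑ g : colY (F := F) n k, χ g * conj (psi0 F (superSum 0 (g : GL (Fin n) F)))) := by
  classical
  let K : Fin n := ⟨k, hkn⟩
  let P : Fin n := ⟨k - 1, by omega⟩
  let ι := {i : Fin n // (i : ℕ) < k}
  have hι : Fintype.card ι = k := Fintype.card_fin_lt_of_le hkn.le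
  let W : (ι → F) → colY (F := F) n k → ℂ := fun a g =>
    psi0 F (∑ i : ι, a i * (g : GL (Fin n) F).val i.1 K)
  have hadd : ∀ g h : colY (F := F) n k, ∀ i : ι,
      ((g * h : colY (F := F) n k) : GL (Fin n) F).val i.1 K =
        (g : GL (Fin n) F).val i.1 K + (h : GL (Fin n) F).val i.1 K := by
    intro g h i
    have hne : i.1 ≠ K := fun e => by
      have h1 := i.2
      rw [e] at h1
      exact lt_irrefl _ h1
    rw [Subgroup.coe_mul, Units.val_mul, Matrix.mul_apply, ← Finset.sum_subset (Finset.subset_univ {i.1, K}),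
      Finset.sum_pair hne, g.2 i.1 i.1 (Or.inl le_rfl), h.2 K K (Or.inl le_rfl), Matrix.one_apply_eq,
      Matrix.one_apply_eq, one_mul, mul_one, add_comm]
    intro l _ hl
    simp only [Finset.mem_insert, Finset.mem_singleton, not_or] at hl
    rcases lt_or_gt_of_ne hl.2 with h1 | h1
    · rw [g.2 i.1 l (Or.inr (Fin.lt_def.mp h1)), Matrix.one_apply_ne (Ne.symm hl.1), zero_mul]
    · rw [h.2 l K (Or.inl h1.le), Matrix.one_apply_ne hl.2, mul_zero]
  have hfour : ∀ g : colY (F := F) n k, ∑ a : ι → F, W a g =
      if (g : GL (Fin n) F) ∈ colY n (k + 1) then (Fintype.card F : ℂ) ^ k else 0 := by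
    intro g
    have h1 : ∑ a : ι → F, W a g =
        ∏ i : ι, ∑ x : F, psi0 F (x * (g : GL (Fin n) F).val i.1 K) := by
      rw [Fintype.prod_sum]
      refine Finset.sum_congr rfl fun a _ => ?_
      exact map_sum (AddChar.toAddMonoidHom (psi0 F)) _ _
    rw [h1, Finset.prod_congr rfl fun i _ => AddChar.sum_mulShift _ psi0_primitive]
    have hiff : (g : GL (Fin n) F) ∈ colY n (k + 1) ↔ ∀ i : ι, (g : GL (Fin n) F).val i.1 K = 0 := by
      constructor
      · intro h i
        rw [h i.1 K (Or.inr (Nat.lt_succ_self k)), Matrix.one_apply_ne]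
        exact fun e => lt_irrefl k (by simpa [e, K] using i.2)
      · intro h i j hij
        rcases hij with h2 | h2
        · exact g.2 i j (Or.inl h2)
        · rcases Nat.lt_succ_iff_lt_or_eq.mp h2 with h3 | h3
          · exact g.2 i j (Or.inr h3)
          · obtain rfl : j = K := Fin.ext h3
            rcases lt_or_ge (i : ℕ) k with h4 | h4
            · rw [h ⟨i, h4⟩, Matrix.one_apply_ne]
              exact fun e => lt_irrefl k (by simpa [e, K] using h4)
            · exact g.2 i K (Or.inl (Fin.le_def.mpr h4))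
    split_ifs with hm
    · have : ∀ i : ι, (g : GL (Fin n) F).val i.1 K = 0 := hiff.mp hm
      simp [this, hι]
    · obtain ⟨i, hi⟩ := not_forall.mp (mt hiff.mpr hm)
      exact Finset.prod_eq_zero (Finset.mem_univ i) (by simp [hi])
  let S : (ι → F) → ℂ := fun a =>
    ∑ g : colY (F := F) n k, χ g * conj (W a g * psi0 F (superSum k (g : GL (Fin n) F)))
  have hP : (P : ℕ) + 1 = k := by simp only [P]; omega
  have hPk : (P : ℕ) < k := by omega
  -- the diagonal orbit
  have horbit : ∀ a : ι → F, a ≠ 0 → S a = ∑ g : colY (F := F) n k,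
      χ g * conj (psi0 F (superSum 0 (g : GL (Fin n) F))) := by
    intro a ha
    obtain ⟨i₀, hi₀⟩ := Function.ne_iff.mp ha
    obtain ⟨h, hh, hrow⟩ := exists_lead (a := fun i => if e : (i : ℕ) < k then a ⟨i, e⟩ else 0)
      (fun i hi => dif_neg (not_lt.mpr hi)) (i₀ := i₀.1) (p := P)
      (by simpa [dif_pos i₀.2] using hi₀) hPk
    have hmap : ∀ h' ∈ lead (F := F) n k, ∀ g ∈ colY (F := F) n k,
        h' * g * h'⁻¹ ∈ colY n k ∧ (∀ r s : Fin n, k ≤ (r : ℕ) →
          ((h' * g * h'⁻¹ : GL (Fin n) F) : Matrix (Fin n) (Fin n) F) r s =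
            (g : Matrix (Fin n) (Fin n) F) r s) := by
      intro h' hh' g hg
      have hh'i := (lead n k).inv_mem hh'
      have hlow : ∀ r s : Fin n, k ≤ (r : ℕ) →
          ((h' * g * h'⁻¹ : GL (Fin n) F) : Matrix (Fin n) (Fin n) F) r s =
            (g : Matrix (Fin n) (Fin n) F) r s := by
        intro r s hr
        have e1 : ∀ s, ((h' * g : GL (Fin n) F) : Matrix (Fin n) (Fin n) F) r s =
            (g : Matrix (Fin n) (Fin n) F) r s := by
          intro s
          rw [Units.val_mul, Matrix.mul_apply, Finset.sum_eq_single r]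
          · rw [hh' r r (Or.inl hr), Matrix.one_apply_eq, one_mul]
          · intro l _ hl
            rw [hh' r l (Or.inl hr), Matrix.one_apply_ne hl.symm, zero_mul]
          · simp
        rw [Units.val_mul, Matrix.mul_apply]
        by_cases hs : k ≤ (s : ℕ)
        · rw [Finset.sum_eq_single s, e1, hh'i s s (Or.inl hs), Matrix.one_apply_eq, mul_one]
          · intro l _ hl
            rw [hh'i l s (Or.inr hs), Matrix.one_apply_ne hl, mul_zero]
          · simp
        · rw [hg r s (Or.inr (not_le.mp hs)), Matrix.one_apply_ne (fun e => hs (by rw [← e]; exact hr)), Finset.sum_eq_zero]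
          intro l _
          by_cases hl : k ≤ (l : ℕ)
          · rw [hh'i l s (Or.inl hl), Matrix.one_apply_ne (fun e => hs (by rw [← e]; exact hl)), mul_zero]
          · rw [e1, hg r l (Or.inr (not_le.mp hl)), Matrix.one_apply_ne (fun e => hl (by rw [← e]; exact hr)), zero_mul]
      refine ⟨fun i j hij => ?_, hlow⟩
      by_cases hi : k ≤ (i : ℕ)
      · rw [hlow i j hi, hg i j hij]
      have hj : (j : ℕ) < k := by
        rcases hij with e | e
        · exact lt_of_le_of_lt (Fin.le_def.mp e) (not_le.mp hi)
        · exact e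
      -- column `j` of `g` is trivial, so is that of the conjugate
      have e2 : ∀ r, ((g * h'⁻¹ : GL (Fin n) F) : Matrix (Fin n) (Fin n) F) r j =
          ((h'⁻¹ : GL (Fin n) F) : Matrix (Fin n) (Fin n) F) r j := by
        intro r
        rw [Units.val_mul, Matrix.mul_apply, Finset.sum_eq_single r]
        · by_cases hr : k ≤ (r : ℕ)
          · rw [hg r r (Or.inl le_rfl), Matrix.one_apply_eq, one_mul]
          · rw [hg r r (Or.inr (not_le.mp hr)), Matrix.one_apply_eq, one_mul]
        · intro l _ hl
          by_cases hl' : k ≤ (l : ℕ)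
          · rw [hh'i l j (Or.inl hl'), Matrix.one_apply_ne (fun e => not_le.mpr hj (by rw [← e]; exact hl')), mul_zero]
          · rw [hg r l (Or.inr (not_le.mp hl')), Matrix.one_apply_ne (Ne.symm hl), zero_mul]
        · simp
      rw [mul_assoc, Units.val_mul, Matrix.mul_apply,
        Finset.sum_congr rfl (fun r _ => by rw [e2 r]), ← Matrix.mul_apply, ← Units.val_mul, mul_inv_cancel,
        Units.val_one]
    let conjE : colY (F := F) n k ≃ colY (F := F) n k :=
      { toFun := fun g => ⟨h * g.1 * h⁻¹, (hmap h hh g.1 g.2).1⟩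
        invFun := fun g => ⟨h⁻¹ * g.1 * h, by
          simpa using (hmap h⁻¹ ((lead n k).inv_mem hh) g.1 g.2).1⟩
        left_inv := fun g => Subtype.ext (by simp [mul_assoc])
        right_inv := fun g => Subtype.ext (by simp [mul_assoc]) }
    refine Fintype.sum_equiv conjE _ _ fun g => ?_
    have h1 : χ (conjE g : GL (Fin n) F) = χ g :=
      CT.isClassFunction_of_isCharacter hχ g.1 h
    rw [h1]
    congr 2
    have hg' := hmap h hh g.1 g.2
    show _ = psi0 F (superSum 0 (h * g.1 * h⁻¹))
    rw [superSum_split (K := K) hP rfl hg'.1, AddChar.map_add_eq_mul]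
    congr 1
    · refine congrArg (psi0 F) ?_
      show _ = ((h * g.1 * h⁻¹ : GL (Fin n) F) : Matrix (Fin n) (Fin n) F) P K
      rw [Units.val_mul (h * g.1), Matrix.mul_apply, Finset.sum_eq_single K,
        (lead n k).inv_mem hh K K (Or.inl le_rfl), Matrix.one_apply_eq, mul_one, Units.val_mul,
        Matrix.mul_apply]
      · rw [← Finset.sum_subset (Finset.subset_univ (Finset.univ.filter fun r : Fin n => (r : ℕ) < k)),
          Finset.sum_subtype (Finset.univ.filter fun r : Fin n => (r : ℕ) < k)
            (p := fun r : Fin n => (r : ℕ) < k) (by simp)]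
        · refine Finset.sum_congr rfl fun i _ => ?_
          rw [hrow i.1, dif_pos i.2]
        · intro r _ hr
          simp only [Finset.mem_filter, Finset.mem_univ, true_and] at hr
          rw [hrow r, dif_neg hr, zero_mul]
      · intro l _ hl
        rw [(lead n k).inv_mem hh l K (Or.inr le_rfl), Matrix.one_apply_ne hl, mul_zero]
      · simp
    · refine congrArg (psi0 F) (Finset.sum_congr rfl fun r _ => Finset.sum_congr rfl fun s _ => ?_)
      split_ifs with hc
      · exact (hg'.2 r s hc.1).symm
      · rfl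
  -- the trivial character dies by cuspidality
  have hzero : S 0 = 0 := by
    let T : Finset (Fin n) := Finset.univ.filter fun i => (i : ℕ) < k
    have hT : T.Nonempty := ⟨P, by simp [T, hPk]⟩
    have hT' : T ≠ Finset.univ := fun e => by
      have := e ▸ Finset.mem_univ K
      simp [T, K] at this
    have hle : rad (F := F) T ≤ colY n k := by
      intro u hu i j hij
      refine hu i j fun ⟨h1, h2⟩ => ?_
      simp only [T, Finset.mem_filter, Finset.mem_univ, true_and] at h1 h2
      rcases hij with e | e
      · exact absurd (Fin.le_def.mp e) (by omega)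
      · exact h2 e
    have hinv : ∀ (g : colY (F := F) n k) (u : rad (F := F) T),
        superSum k ((g * ⟨u.1, hle u.2⟩ : colY (F := F) n k) : GL (Fin n) F) = superSum k g.1 := by
      intro g u
      rw [Subgroup.coe_mul, superSum_mul k (colY_le g.2) (colY_le (hle u.2))]
      suffices superSum k u.1 = 0 by rw [this, add_zero]
      refine Finset.sum_eq_zero fun i _ => Finset.sum_eq_zero fun j _ => ?_
      split_ifs with hc
      · rw [u.2 i j (fun h => by
          have := h.1
          simp [T] at this
          omega), Matrix.one_apply_ne]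
        intro e
        rw [e] at hc
        omega
      · rfl
    have h0 : (Fintype.card (rad (F := F) T) : ℂ) * S 0 = 0 := by
      calc (Fintype.card (rad (F := F) T) : ℂ) * S 0
          = ∑ u : rad (F := F) T, ∑ g : colY (F := F) n k,
              χ ((g : GL (Fin n) F) * u) * conj (psi0 F (superSum k (g : GL (Fin n) F))) := by
            have hsh : ∀ u : rad (F := F) T, ∑ g : colY (F := F) n k,
                χ ((g : GL (Fin n) F) * u) * conj (psi0 F (superSum k (g : GL (Fin n) F))) = S 0 := by
              intro u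
              refine Fintype.sum_equiv (Equiv.mulRight ⟨u.1, hle u.2⟩) _ _ fun g => ?_
              show _ = χ _ * conj (W 0 _ * _)
              rw [Equiv.coe_mulRight, hinv g u]
              simp [W]
            rw [Finset.sum_congr rfl fun u _ => hsh u, Finset.sum_const, Finset.card_univ, nsmul_eq_mul]
        _ = 0 := by
            rw [Finset.sum_comm]
            refine Finset.sum_eq_zero fun g _ => ?_
            rw [← Finset.sum_mul, sum_translate_eq_zero hχ _ (hc T hT hT') _, zero_mul]
    exact (mul_eq_zero.mp h0).resolve_left (Nat.cast_ne_zero.mpr Fintype.card_ne_zero)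
  have hsum : ∀ Φ : colY (F := F) n k → ℂ, ∑ a : ι → F, ∑ g : colY (F := F) n k, Φ g * conj (W a g) =
      (Fintype.card F : ℂ) ^ k * ∑ g : colY (F := F) n (k + 1),
        Φ ⟨g.1, colY_anti (Nat.le_succ k) g.2⟩ := by
    intro Φ
    rw [Finset.sum_comm]
    simp only [← Finset.mul_sum, ← map_sum, hfour, apply_ite conj, map_pow, map_natCast, map_zero,
      mul_ite, mul_zero]
    rw [← Finset.sum_filter, Finset.mul_sum]
    refine Finset.sum_bij' (fun g hg => ⟨g.1, (Finset.mem_filter.mp hg).2⟩)
      (fun g _ => ⟨g.1, colY_anti (Nat.le_succ k) g.2⟩) (by simp) (by simp) (by simp) (by simp) ?_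
    intro g hg
    ring
  have hcard : (Nat.card (colY (F := F) n k) : ℂ) =
      (Fintype.card F : ℂ) ^ k * Nat.card (colY (F := F) n (k + 1)) := by
    have := hsum fun _ => 1
    rw [Finset.sum_eq_single (0 : ι → F)] at this
    · simpa [W, Nat.card_eq_fintype_card] using this
    · intro a _ ha
      obtain ⟨i, hi⟩ := Function.ne_iff.mp ha
      obtain ⟨t, ht⟩ := psi0_ne_one (F := F)
      have hne : i.1 ≠ K := fun e => by
        have h1 := i.2
        rw [e] at h1
        exact lt_irrefl _ h1
      let z : GL (Fin n) F := Matrix.GeneralLinearGroup.mkOfDetNeZero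
        (Matrix.transvection i.1 K (t / a i)) (by rw [Matrix.det_transvection_of_ne _ _ hne]; exact one_ne_zero)
      have hzval : ∀ r s, (z : Matrix (Fin n) (Fin n) F) r s =
          (1 : Matrix (Fin n) (Fin n) F) r s + if i.1 = r ∧ K = s then t / a i else 0 := by
        intro r s
        show Matrix.transvection i.1 K (t / a i) r s = _
        simp [Matrix.transvection, Matrix.single_apply]
      have hz : z ∈ colY n k := by
        intro r s hrs
        rw [hzval, if_neg, add_zero]
        rintro ⟨rfl, rfl⟩
        rcases hrs with e | e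
        · exact absurd (Fin.le_def.mp e) (not_le.mpr i.2)
        · exact lt_irrefl _ e
      have hval : W a ⟨z, hz⟩ = psi0 F t := by
        refine congrArg (psi0 F) ?_
        rw [Finset.sum_eq_single i]
        · rw [hzval, Matrix.one_apply_ne hne, if_pos ⟨rfl, rfl⟩, zero_add,
            mul_div_cancel₀ _ hi]
        · intro j _ hj
          have hjne : j.1 ≠ K := fun e => by
            have h1 := j.2
            rw [e] at h1
            exact lt_irrefl _ h1
          rw [hzval, Matrix.one_apply_ne hjne, if_neg fun e => hj (Subtype.ext e.1.symm), add_zero, mul_zero]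
        · simp
      have hW : ∀ g, W a (g * ⟨z, hz⟩) = W a g * W a ⟨z, hz⟩ := fun g => by
        simp only [W, ← AddChar.map_add_eq_mul, ← Finset.sum_add_distrib, hadd, mul_add]
      have h2 : conj (psi0 F t) * ∑ g : colY (F := F) n k, conj (W a g) =
          ∑ g : colY (F := F) n k, conj (W a g) := by
        rw [Finset.mul_sum]
        refine Fintype.sum_equiv (Equiv.mulRight ⟨z, hz⟩) _ _ fun g => ?_
        rw [Equiv.coe_mulRight, hW, hval, map_mul, mul_comm]
      simp only [one_mul]
      by_contra hne'
      refine ht ?_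
      have h3 := mul_right_cancel₀ hne' (h2.trans (one_mul _).symm)
      simpa using congrArg conj h3
    · simp
  have key : (Fintype.card F : ℂ) ^ k *
      (∑ g : colY (F := F) n (k + 1), χ g * conj (psi0 F (superSum 0 (g : GL (Fin n) F)))) =
      ((Fintype.card F : ℂ) ^ k - 1) *
        ∑ g : colY (F := F) n k, χ g * conj (psi0 F (superSum 0 (g : GL (Fin n) F))) := by
    have h1 := hsum fun g => χ g * conj (psi0 F (superSum k (g : GL (Fin n) F)))
    have h2 : ∀ a : ι → F, ∑ g : colY (F := F) n k,
        χ g * conj (psi0 F (superSum k (g : GL (Fin n) F))) * conj (W a g) = S a := fun a =>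
      Finset.sum_congr rfl fun g _ => by rw [map_mul]; ring
    simp only [h2] at h1
    rw [Fintype.sum_eq_add_sum_compl (0 : ι → F), hzero, zero_add,
      Finset.sum_congr rfl (fun a ha => horbit a (by simpa using ha)), Finset.sum_const, Finset.card_compl,
      Finset.card_singleton, Fintype.card_fun, hι, nsmul_eq_mul,
      Nat.cast_sub (Nat.one_le_pow _ _ Fintype.card_pos)] at h1
    push_cast at h1
    rw [h1]
    congr 1
    refine Finset.sum_congr rfl fun g _ => ?_
    rw [superSum_split (K := K) hP rfl (colY_anti (Nat.le_succ k) g.2),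
      g.2 P K (Or.inr (Nat.lt_succ_self k)), Matrix.one_apply_ne, zero_add]
    intro e
    have := congrArg Fin.val e
    simp only [K] at this
    omega
  have hq : (Fintype.card F : ℂ) ^ k ≠ 0 := pow_ne_zero _ (Nat.cast_ne_zero.mpr Fintype.card_ne_zero)
  have hc' : (Nat.card (colY (F := F) n (k + 1)) : ℂ) ≠ 0 := Nat.cast_ne_zero.mpr Nat.card_pos.ne'
  rw [hcard]
  field_simp
  linear_combination key

theorem degree_eq {χ : GL (Fin n) F → ℂ} (hχ : IsCharacter _ χ) (hc : IsCusp χ) (hn : 0 < n) :
    χ 1 = (∏ i ∈ Finset.Ico 1 n, ((Fintype.card F : ℂ) ^ i - 1)) *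
      classInner (fun g : uni (F := F) n => χ g) (psiFun n) := by
  classical
  let A : ℕ → ℂ := fun k => (Nat.card (colY (F := F) n k) : ℂ)⁻¹ *
    ∑ g : colY (F := F) n k, χ g * conj (psi0 F (superSum 0 (g : GL (Fin n) F)))
  have hind : ∀ k, 1 ≤ k → k ≤ n → A k = (∏ i ∈ Finset.Ico 1 k, ((Fintype.card F : ℂ) ^ i - 1)) * A 1 := by
    intro k hk
    induction k, hk using Nat.le_induction with
    | base => simp
    | succ m hm ih =>
      intro hmn
      rw [Finset.prod_Ico_succ_top hm, show A (m + 1) = ((Fintype.card F : ℂ) ^ m - 1) * A m from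
        degree_step hχ hc hm (by omega), ih (by omega)]
      ring
  have htop : A n = χ 1 := by
    have hbot : ∀ g : colY (F := F) n n, g = 1 := fun g => Subtype.ext (Units.ext
      (Matrix.ext fun i j => g.2 i j (Or.inr j.2)))
    haveI : Unique (colY (F := F) n n) := ⟨⟨1⟩, hbot⟩
    simp only [A, Fintype.sum_unique, Nat.card_unique, Nat.cast_one, inv_one, one_mul]
    rw [hbot default, Subgroup.coe_one, superSum_one, AddChar.map_zero_eq_one, map_one, mul_one]
  have h01 : colY (F := F) n 1 = uni n := le_antisymm colY_le fun g hg i j hij =>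
    hij.elim (fun e => hg i j (Or.inl e)) fun e => hg i j (Or.inl (Fin.le_def.mpr (by omega)))
  have hone : A 1 = classInner (fun g : uni (F := F) n => χ g) (psiFun n) := by
    simp only [A, classInner, psiFun]
    rw [sum_subgroup (colY n 1) (fun g => χ g * conj (psi0 F (superSum 0 g))),
      sum_subgroup (uni n) (fun g => χ g * conj (psi0 F (superSum 0 g))), h01]
  rw [← htop, hind n hn le_rfl, hone]

end Degree

end Cfsg.Agent.GLCusp
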