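import Cfsg.Agent.Lib.GLCusp.Unip

set_option autoImplicit false
set_option linter.unusedSectionVars false

/-!
The multiplicity of the Gelfand–Graev character in an induced character.
-/

namespace Cfsg.Agent.GLCusp

open Cfsg Matrix
open scoped ComplexConjugate Classical

universe u

variable {F : Type u} [Field F] [Fintype F] [DecidableEq F] {n k : ℕ} {d : Fin k → ℕ}

/-- The multiplicity of the generic character of the unitriangular group in a class function. -/
noncomputable def wh {m : ℕ} (χ : GL (Fin m) F → ℂ) : ℂ :=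
  classInner (fun g : uni (F := F) m => χ g) (psiFun m)

variable (F n) in
/-- The Gelfand–Graev character. -/
noncomputable def gg : GL (Fin n) F → ℂ := indFun (uni n) (psiFun n)

theorem isCharacter_gg : IsCharacter _ (gg F n) := CT.isCharacter_indFun _ (isCharacter_psiFun n)

/-- The pairing of a parabolic function with the generic character. -/
noncomputable def wpair (E : (Σ a, Fin (d a)) ≃ Fin n) (χ : ∀ a, GL (Fin (d a)) F → ℂ) : ℂ :=
  ∑ u : uni (F := F) n, extendByZero (parab E) (parabFun E χ) u * conj (psiFun n u)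

theorem sum_ext_mul {G : Type u} [Group G] [Fintype G] (U : Subgroup G) (θ : U → ℂ) (Φ : G → ℂ) :
    ∑ v : U, Φ v * conj (θ v) = ∑ g : G, Φ g * conj (extendByZero U θ g) := by
  have h1 : ∑ v : U, Φ v * conj (θ v) = ∑ v : U, (fun g => Φ g * conj (extendByZero U θ g)) v :=
    Finset.sum_congr rfl fun v _ => by simp only [CT.extendByZero_coe]
  rw [h1, sum_subgroup U (fun g => Φ g * conj (extendByZero U θ g))]
  refine Finset.sum_congr rfl fun g _ => ?_
  by_cases hg : g ∈ U
  · rw [if_pos hg]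
  · rw [if_neg hg, CT.extendByZero_not_mem _ _ hg, map_zero, mul_zero]

theorem cellSum_uni (E : (Σ a, Fin (d a)) ≃ Fin n) (χ : ∀ a, GL (Fin (d a)) F → ℂ)
    (σ : Equiv.Perm (Fin n)) :
    cellSum (parab E) (uni n) (parabFun E χ) (psiFun n) (GLUnipotent.permGL σ) =
      wpair (E.trans σ.symm) χ := by
  set x : GL (Fin n) F := GLUnipotent.permGL σ with hx
  rw [cellSum, wpair, CT.sum_extendByZero (parab E) (parabFun E χ)
    (fun g => conj (extendByZero (uni n) (psiFun n) (x⁻¹ * g * x))) |>.symm]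
  have h1 : ∀ g : GL (Fin n) F, extendByZero (parab E) (parabFun E χ) g =
      extendByZero (parab (E.trans σ.symm)) (parabFun (E.trans σ.symm) χ) (x⁻¹ * g * x) := by
    intro g
    have e : (GLUnipotent.permGL (σ.symm : Equiv.Perm (Fin n)))⁻¹ * (x⁻¹ * g * x) *
        GLUnipotent.permGL σ.symm = g := by
      rw [← Equiv.Perm.inv_def, map_inv, hx]
      group
    by_cases hg : g ∈ parab E
    · have h2 : x⁻¹ * g * x ∈ parab (E.trans σ.symm) := (conj_permGL_mem E σ.symm _).mp (by rw [e]; exact hg)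
      rw [CT.extendByZero_mem _ _ hg, CT.extendByZero_mem _ _ h2]
      simp only [parabFun]
      refine Finset.prod_congr rfl fun a _ => congrArg (χ a) (Units.ext (Matrix.ext fun r s => ?_))
      rw [blockHom_val, blockHom_val]
      conv_lhs => rw [show ((⟨g, hg⟩ : parab E) : GL (Fin n) F) = g from rfl, ← e, co_conj_permGL]
    · rw [CT.extendByZero_not_mem _ _ hg, CT.extendByZero_not_mem]
      intro h
      exact hg (e ▸ (conj_permGL_mem E σ.symm _).mpr h)
  simp only [h1]
  rw [sum_ext_mul (uni n) (psiFun n)]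
  exact Fintype.sum_equiv (MulAut.conj x⁻¹).toEquiv _ _ fun g => by simp

theorem wpair_eq_zero (E : (Σ a, Fin (d a)) ≃ Fin n) (χ : ∀ a, GL (Fin (d a)) F → ℂ)
    {i j : Fin n} (hij : (j : ℕ) = i + 1) (h : (E.symm i).1 < (E.symm j).1) : wpair E χ = 0 := by
  obtain ⟨t, ht⟩ := psi0_ne_one (F := F)
  have hne : i ≠ j := fun e => by rw [e] at hij; omega
  let z : GL (Fin n) F := Matrix.GeneralLinearGroup.mkOfDetNeZero (Matrix.transvection i j t)
    (by rw [Matrix.det_transvection_of_ne _ _ hne]; exact one_ne_zero)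
  have hzval : ∀ r s, (z : Matrix (Fin n) (Fin n) F) r s =
      (1 : Matrix (Fin n) (Fin n) F) r s + if i = r ∧ j = s then t else 0 := by
    intro r s
    show Matrix.transvection i j t r s = _
    simp [Matrix.transvection, Matrix.single_apply]
  have hzU : z ∈ uni n := by
    intro r s hrs
    rw [hzval, if_neg, add_zero]
    rintro ⟨rfl, rfl⟩
    rcases hrs with e | e
    · have := Fin.le_def.mp e; omega
    · exact Nat.not_lt_zero _ e
  have hzone : ∀ x y, y.1 ≤ x.1 → co E z x y = (1 : Matrix _ _ F) x y := by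
    intro x y hxy
    simp only [co, Matrix.submatrix_apply, hzval]
    rw [if_neg, add_zero]
    · rcases eq_or_ne x y with rfl | hxy'
      · simp
      · simp [hxy']
    · rintro ⟨rfl, rfl⟩
      rw [Equiv.symm_apply_apply, Equiv.symm_apply_apply] at h
      exact absurd h (not_lt.mpr hxy)
  have hzP : z ∈ parab E := fun x y hxy => by
    rw [hzone x y hxy.le, Matrix.one_apply_ne]
    exact fun e => hxy.ne (congrArg Sigma.fst e).symm
  have hblk : ∀ a, blockHom E a ⟨z, hzP⟩ = 1 := fun a => Units.ext (Matrix.ext fun r s => by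
    rw [blockHom_val]
    show co E z ⟨a, r⟩ ⟨a, s⟩ = _
    rw [hzone ⟨a, r⟩ ⟨a, s⟩ le_rfl]
    rcases eq_or_ne r s with rfl | hrs
    · simp
    · simp [Matrix.one_apply_ne hrs, hrs])
  have hpsi : psiFun n ⟨z, hzU⟩ = psi0 F t := by
    refine congrArg (psi0 F) ?_
    rw [superSum, Finset.sum_eq_single i, Finset.sum_eq_single j]
    · rw [if_pos ⟨Nat.zero_le _, hij⟩, hzval, Matrix.one_apply_ne hne, if_pos ⟨rfl, rfl⟩, zero_add]
    · intro s _ hs
      rw [if_neg]
      exact fun e => hs (Fin.ext (by omega))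
    · simp
    · intro r _ hr
      refine Finset.sum_eq_zero fun s _ => ?_
      split_ifs with hc
      · rw [hzval, if_neg (fun e => hr e.1.symm), Matrix.one_apply_ne, add_zero]
        intro e
        rw [e] at hc
        omega
      · rfl
    · simp
  have hshift : conj (psi0 F t) * wpair E χ = wpair E χ := by
    rw [wpair, Finset.mul_sum]
    refine Fintype.sum_equiv (Equiv.mulRight ⟨z, hzU⟩) _ _ fun u => ?_
    rw [Equiv.coe_mulRight, psiFun_mul, hpsi, map_mul, Subgroup.coe_mul]
    have e : extendByZero (parab E) (parabFun E χ) ((u : GL (Fin n) F) * z) =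
        extendByZero (parab E) (parabFun E χ) u := by
      by_cases hu : (u : GL (Fin n) F) ∈ parab E
      · rw [CT.extendByZero_mem _ _ (mul_mem hu hzP), CT.extendByZero_mem _ _ hu]
        simp only [parabFun]
        refine Finset.prod_congr rfl fun a _ => ?_
        rw [show (⟨(u : GL (Fin n) F) * z, mul_mem hu hzP⟩ : parab E) = ⟨_, hu⟩ * ⟨z, hzP⟩ from rfl,
          map_mul, hblk, mul_one]
      · rw [CT.extendByZero_not_mem _ _ hu, CT.extendByZero_not_mem]
        exact fun h' => hu ((Subgroup.mul_mem_cancel_right _ hzP).mp h')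
    rw [e]
    ring
  by_contra hne'
  refine ht ?_
  have := mul_right_cancel₀ hne' (hshift.trans (one_mul _).symm)
  simpa using congrArg conj this

theorem concat_succ {n k : ℕ} (d : Fin k → ℕ) (hn : ∑ a, d a = n) (a : Fin k) (r s : Fin (d a)) :
    (concat d hn ⟨a, s⟩ : ℕ) = concat d hn ⟨a, r⟩ + 1 ↔ (s : ℕ) = r + 1 := by
  rw [concat_val, concat_val]
  dsimp only
  omega

/-- The decomposition with the blocks in reverse order. -/
def revE (d : Fin k → ℕ) (hn : ∑ a, d (Fin.revPerm a) = n) : (Σ a, Fin (d a)) ≃ Fin n :=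
  relabel (concat (fun a => d (Fin.revPerm a)) hn) Fin.revPerm fun _ => rfl

theorem exists_rev_coord (d : Fin k → ℕ) (hn : ∑ a, d (Fin.revPerm a) = n) (x : Σ a, Fin (d a)) :
    ∃ (a : Fin k) (r : Fin (d (Fin.revPerm a))), x = ⟨Fin.revPerm a, r⟩ ∧
      revE d hn x = concat (fun a => d (Fin.revPerm a)) hn ⟨a, r⟩ := by
  obtain ⟨b, t⟩ := x
  obtain ⟨a, rfl⟩ := Fin.revPerm.surjective b
  refine ⟨a, t, rfl, ?_⟩
  exact relabel_apply (concat (fun a => d (Fin.revPerm a)) hn) Fin.revPerm (fun _ => rfl) a t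

theorem revE_lt (d : Fin k → ℕ) (hn : ∑ a, d (Fin.revPerm a) = n) {x y : Σ a, Fin (d a)}
    (h : x.1 < y.1) : revE d hn y < revE d hn x := by
  obtain ⟨a, r, rfl, e1⟩ := exists_rev_coord d hn x
  obtain ⟨b, s, rfl, e2⟩ := exists_rev_coord d hn y
  rw [e1, e2]
  refine concat_lt (fun a => d (Fin.revPerm a)) hn ?_
  exact Fin.rev_lt_rev.mp h

theorem revE_same (d : Fin k → ℕ) (hn : ∑ a, d (Fin.revPerm a) = n) (b : Fin k) (r s : Fin (d b)) :
    (revE d hn ⟨b, r⟩ < revE d hn ⟨b, s⟩ ↔ r < s) ∧
      ((revE d hn ⟨b, s⟩ : ℕ) = revE d hn ⟨b, r⟩ + 1 ↔ (s : ℕ) = r + 1) := by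
  obtain ⟨a, rfl⟩ := Fin.revPerm.surjective b
  have e : ∀ t, revE d hn ⟨Fin.revPerm a, t⟩ = concat (fun a => d (Fin.revPerm a)) hn ⟨a, t⟩ :=
    fun t => relabel_apply (concat (fun a => d (Fin.revPerm a)) hn) Fin.revPerm (fun _ => rfl) a t
  rw [e, e]
  exact ⟨concat_lt_iff_same (fun a => d (Fin.revPerm a)) hn a r s,
    concat_succ (fun a => d (Fin.revPerm a)) hn a r s⟩

theorem wpair_revE (d : Fin k → ℕ) (hn : ∑ a, d (Fin.revPerm a) = n)
    (χ : ∀ a, GL (Fin (d a)) F → ℂ) :
    wpair (revE d hn) χ =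
      (Nat.card {u : uni (F := F) n // (u : GL (Fin n) F) ∈ parab (revE d hn)} : ℂ) * ∏ a, wh (χ a) := by
  set E := revE d hn with hE
  let H : Subgroup (GL (Fin n) F) := uni n ⊓ parab E
  have hblkU : ∀ (p : H) (a : Fin k), blockHom E a ⟨p.1, p.2.2⟩ ∈ uni (F := F) (d a) := by
    intro p a r s hrs
    rw [blockHom_val]
    have hle : E ⟨a, s⟩ ≤ E ⟨a, r⟩ := by
      rcases hrs with e | e
      · by_contra hlt
        exact not_lt.mpr e ((revE_same d hn a r s).1.mp (not_le.mp hlt))
      · exact absurd e (Nat.not_lt_zero _)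
    show (p.1 : Matrix (Fin n) (Fin n) F) (E ⟨a, r⟩) (E ⟨a, s⟩) = _
    rw [p.2.1 _ _ (Or.inl hle)]
    rcases eq_or_ne r s with rfl | hne
    · simp
    · rw [Matrix.one_apply_ne hne, Matrix.one_apply_ne]
      simpa using hne
  let Φ : H →* ∀ a, uni (F := F) (d a) :=
    MonoidHom.pi fun a => MonoidHom.codRestrict ((blockHom E a).comp (Subgroup.inclusion inf_le_right))
      (uni (d a)) fun p => hblkU p a
  have hΦ : Function.Surjective Φ := by
    intro l
    refine ⟨⟨blkDiag E fun a => (l a : GL (Fin (d a)) F), ?_, blkDiag_mem E _⟩, funext fun a => Subtype.ext ?_⟩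
    · intro i j hij
      obtain ⟨⟨a, r⟩, rfl⟩ := E.surjective i
      obtain ⟨⟨b, s⟩, rfl⟩ := E.surjective j
      have := congrFun₂ (co_blkDiag E fun a => (l a : GL (Fin (d a)) F)) ⟨a, r⟩ ⟨b, s⟩
      simp only [co, Matrix.submatrix_apply] at this
      rw [this]
      rcases eq_or_ne a b with rfl | hab
      · rw [Matrix.blockDiagonal'_apply_eq]
        have hsr : s ≤ r := by
          rcases hij with e | e
          · exact not_lt.mp fun h => not_lt.mpr e ((revE_same d hn a r s).1.mpr h)
          · exact absurd e (Nat.not_lt_zero _)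
        rw [(l a).2 r s (Or.inl hsr)]
        rcases eq_or_ne r s with rfl | hne
        · simp
        · rw [Matrix.one_apply_ne hne, Matrix.one_apply_ne]
          simpa using hne
      · rw [Matrix.blockDiagonal'_apply_ne _ _ _ hab, Matrix.one_apply_ne]
        intro e
        exact hab (congrArg Sigma.fst (E.injective e))
    · exact blockHom_blkDiag E _ a
  have hψ : ∀ p : H, psiFun n ⟨p.1, p.2.1⟩ = ∏ a, psiFun (d a) (Φ p a) := by
    intro p
    show psi0 F _ = ∏ a, psi0 F _
    refine Eq.trans (congrArg (psi0 F) ?_) (map_sum (AddChar.toAddMonoidHom (psi0 F)) _ _)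
    show superSum 0 (p.1 : GL (Fin n) F) = ∑ a, superSum 0 (blockHom E a ⟨p.1, p.2.2⟩)
    simp only [superSum]
    rw [← Equiv.sum_comp E, Fintype.sum_sigma]
    refine Finset.sum_congr rfl fun a _ => Finset.sum_congr rfl fun r _ => ?_
    rw [← Equiv.sum_comp E, Fintype.sum_sigma, Finset.sum_eq_single a]
    · refine Finset.sum_congr rfl fun s _ => ?_
      simp only [Nat.zero_le, true_and, blockHom_val, (revE_same d hn a r s).2, hE]
      rfl
    · intro b _ hb
      refine Finset.sum_eq_zero fun s _ => ?_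
      split_ifs with hc
      · rcases lt_or_gt_of_ne hb with hlt | hlt
        · exact p.2.2 ⟨a, r⟩ ⟨b, s⟩ hlt
        · have := Fin.lt_def.mp (revE_lt d hn (x := ⟨a, r⟩) (y := ⟨b, s⟩) hlt)
          rw [hE] at hc
          omega
      · rfl
    · simp
  have h1 : wpair E χ = ∑ p : H, ∏ a, χ a (Φ p a) * conj (psiFun (d a) (Φ p a)) := by
    let G₀ : GL (Fin n) F → ℂ := fun g =>
      extendByZero (parab E) (parabFun E χ) g * conj (extendByZero (uni n) (psiFun n) g)
    have e1 : wpair E χ = ∑ g : GL (Fin n) F, if g ∈ uni n then G₀ g else 0 := by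
      rw [← sum_subgroup]
      exact Finset.sum_congr rfl fun u _ => by simp only [G₀, CT.extendByZero_coe]
    rw [e1, show ∑ p : H, ∏ a, χ a (Φ p a) * conj (psiFun (d a) (Φ p a)) = ∑ p : H, G₀ p.1 from ?_,
      sum_subgroup H]
    · refine Finset.sum_congr rfl fun g _ => ?_
      by_cases hu : g ∈ uni n
      · by_cases hp : g ∈ parab E
        · rw [if_pos hu, if_pos (show g ∈ H from ⟨hu, hp⟩)]
        · rw [if_pos hu, if_neg (fun h : g ∈ H => hp h.2)]
          simp only [G₀, CT.extendByZero_not_mem _ _ hp, zero_mul]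
      · rw [if_neg hu, if_neg (fun h : g ∈ H => hu h.1)]
    · refine Finset.sum_congr rfl fun p _ => ?_
      simp only [G₀]
      rw [CT.extendByZero_mem _ _ p.2.2, CT.extendByZero_mem _ _ p.2.1, hψ, map_prod,
        Finset.prod_mul_distrib]
      rfl
  rw [h1, sum_comp_hom Φ hΦ (fun l => ∏ a, χ a (l a) * conj (psiFun (d a) (l a))),
    show Nat.card H = Nat.card {u : uni (F := F) n // (u : GL (Fin n) F) ∈ parab E} from
      Nat.card_congr ((Equiv.subtypeSubtypeEquivSubtypeInter (fun g => g ∈ uni n) (fun g => g ∈ parab E)).symm),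
    mul_assoc]
  congr 1
  simp only [wh, classInner]
  rw [Finset.prod_mul_distrib (f := fun a => (Nat.card (uni (F := F) (d a)) : ℂ)⁻¹), Fintype.prod_sum,
    Nat.card_pi]
  push_cast
  rw [Finset.prod_inv_distrib]

theorem inner_ind_gg (D : Datum F n) :
    classInner D.ind (gg F n) = ∏ a, wh (D.χ a) := by
  have hn : ∑ a, D.d (Fin.revPerm a) = n := by rw [Equiv.sum_comp Fin.revPerm D.d]; exact D.hn
  let σ₀ : Equiv.Perm (Fin n) := (revE D.d hn).symm.trans D.E
  have hR : D.E.trans σ₀.symm = revE D.d hn := by ext x; simp [σ₀]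
  have hanti₀ : Antitone ((fun i => (D.E.symm i).1) ∘ σ₀) := by
    intro i j hij
    show (D.E.symm (σ₀ j)).1 ≤ (D.E.symm (σ₀ i)).1
    simp only [σ₀, Equiv.trans_apply, Equiv.symm_apply_apply]
    by_contra hlt
    have := revE_lt D.d hn (not_le.mp hlt)
    simp only [Equiv.apply_symm_apply] at this
    exact absurd hij (not_le.mpr this)
  rw [Datum.ind, gg, parabInd,
    classInner_ind_eq (parab D.E) (uni n) D.fn (psiFun n) D.isClassFunction_fn (isClassFunction_psiFun n)
      (fun _ : Unit => GLUnipotent.permGL σ₀) (fun _ => ∏ a, wh (D.χ a)) ?_ (fun _ _ _ => rfl) ?_]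
  · simp
  · intro _
    rw [cellSum_uni, hR, wpair_revE D.d hn D.χ]
    congr 2
    set x : GL (Fin n) F := GLUnipotent.permGL σ₀ with hx
    have e : ∀ g : GL (Fin n) F, x⁻¹ * g * x ∈ parab (revE D.d hn) ↔ g ∈ parab D.E := fun g => by
      rw [← hR, ← conj_permGL_mem, show (GLUnipotent.permGL (σ₀.symm : Equiv.Perm (Fin n)))⁻¹ * (x⁻¹ * g * x) *
        GLUnipotent.permGL σ₀.symm = g by rw [← Equiv.Perm.inv_def, map_inv, hx]; group]
    exact Nat.card_congr
      { toFun := fun u => ⟨⟨x * u.1.1 * x⁻¹, (e _).mp (by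
          rw [show x⁻¹ * (x * u.1.1 * x⁻¹) * x = u.1.1 by group]; exact u.2)⟩, by
          show x⁻¹ * (x * u.1.1 * x⁻¹) * x ∈ uni n
          rw [show x⁻¹ * (x * u.1.1 * x⁻¹) * x = u.1.1 by group]; exact u.1.2⟩
        invFun := fun p => ⟨⟨x⁻¹ * p.1.1 * x, p.2⟩, (e _).mpr p.1.2⟩
        left_inv := fun u => Subtype.ext (Subtype.ext (by simp [mul_assoc]))
        right_inv := fun p => Subtype.ext (Subtype.ext (by simp [mul_assoc])) }
  · intro y hy
    obtain ⟨σ, b, b', hb, hb', rfl⟩ := GLUnipotent.exists_bruhat y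
    -- push the diagonal part of `b'` through the permutation
    let t : GL (Fin n) F := Matrix.GeneralLinearGroup.mkOfDetNeZero (Matrix.diagonal fun i => b'.val i i) (by
      rw [Matrix.det_diagonal, ← Matrix.det_of_upperTriangular hb']
      exact (Matrix.isUnit_iff_isUnit_det _).mp b'.isUnit |>.ne_zero)
    let t' : GL (Fin n) F := GLUnipotent.permGL σ * t * (GLUnipotent.permGL σ)⁻¹
    have ht' : t'.val.BlockTriangular id := by
      intro i j hji
      have := co_permGL (σ⁻¹) t i j
      simp only [map_inv, inv_inv] at this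
      show (GLUnipotent.permGL σ * t * (GLUnipotent.permGL σ)⁻¹ : GL (Fin n) F).val i j = 0
      rw [this]
      show Matrix.diagonal _ (σ⁻¹ i) (σ⁻¹ j) = 0
      exact Matrix.diagonal_apply_ne _ fun e => (ne_of_gt hji) (σ⁻¹.injective e)
    have hu : t⁻¹ * b' ∈ uni n := by
      intro i j hij
      have h1 := Matrix.ext_iff.mpr (congrArg Units.val (mul_inv_cancel_left t b')) i j
      rw [Units.val_mul] at h1
      change (Matrix.diagonal (fun i => b'.val i i) * (t⁻¹ * b' : GL (Fin n) F).val) i j = b'.val i j at h1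
      rw [Matrix.diagonal_mul] at h1
      have hne : b'.val i i ≠ 0 := by
        have := ((Matrix.isUnit_iff_isUnit_det _).mp b'.isUnit).ne_zero
        rw [Matrix.det_of_upperTriangular hb'] at this
        exact Finset.prod_ne_zero_iff.mp this i (Finset.mem_univ i)
      have hle : j ≤ i := hij.elim id fun e => absurd e (Nat.not_lt_zero _)
      rcases eq_or_lt_of_le hle with rfl | hlt
      · rw [Matrix.one_apply_eq]
        exact mul_left_cancel₀ hne (h1.trans (mul_one _).symm)
      · rw [hb' hlt] at h1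
        rw [Matrix.one_apply_ne (ne_of_gt hlt)]
        exact (mul_eq_zero.mp h1).resolve_left hne
    let P : parab (F := F) D.E := ⟨b, upper_mem_parab _ _ hb⟩ * ⟨t', upper_mem_parab _ _ ht'⟩
    have hy' : b * GLUnipotent.permGL σ * b' =
        (P : GL (Fin n) F) * GLUnipotent.permGL σ * ((⟨t⁻¹ * b', hu⟩ : uni n) : GL (Fin n) F) := by
      simp [P, t', mul_assoc]
    rw [hy', cellSum_mul _ _ _ _ D.isClassFunction_fn (isClassFunction_psiFun n), cellSum_uni] at hy
    have hanti : Antitone ((fun i => (D.E.symm i).1) ∘ σ) := by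
      rcases n with _ | m
      · intro i
        exact i.elim0
      refine Fin.antitone_iff_succ_le.mpr fun i => ?_
      by_contra hlt
      refine hy (wpair_eq_zero _ _ (i := i.castSucc) (j := i.succ) (by simp) ?_)
      simpa using not_le.mp hlt
    have hlab := Tuple.unique_antitone hanti hanti₀
    refine ⟨(), ?_⟩
    obtain ⟨p, q, e⟩ : (GLUnipotent.permGL σ : GL (Fin n) F) ∈
        cell (parab D.E) (uni n) (GLUnipotent.permGL σ₀) := by
      refine ⟨⟨GLUnipotent.permGL (σ * σ₀⁻¹), fun x y hxy => ?_⟩, 1, ?_⟩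
      · show (GLUnipotent.permGL (σ * σ₀⁻¹) : GL (Fin n) F).val (D.E x) (D.E y) = 0
        rw [GLUnipotent.permGL_apply, if_neg]
        intro e
        have h1 := congrFun hlab (σ₀⁻¹ (D.E y))
        simp only [Function.comp_apply] at h1
        rw [show σ₀ (σ₀⁻¹ (D.E y)) = D.E y from σ₀.apply_symm_apply _] at h1
        rw [show σ (σ₀⁻¹ (D.E y)) = (σ * σ₀⁻¹) (D.E y) from rfl, ← e, Equiv.symm_apply_apply,
          Equiv.symm_apply_apply] at h1
        exact hxy.ne h1.symm
      · rw [Subgroup.coe_one, mul_one, ← map_mul, inv_mul_cancel_right]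
    refine ⟨P * p, q * ⟨t⁻¹ * b', hu⟩, ?_⟩
    rw [hy', e]
    simp only [Subgroup.coe_mul, mul_assoc]

end Cfsg.Agent.GLCusp
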